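import Cfsg.Agent.H50.HerPan
import Cfsg.Agent.Nodes.RGDChev
import Cfsg.Agent.Nodes.RGDTwD4
import Cfsg.Agent.ClosedExc.Rows
import Cfsg.Agent.H716.RGDAb

/-!
# The root group data of `G₂(q)` and `³D₄(q)` with the orders of the root groups (helper793, for helper50)
-/

set_option autoImplicit false

namespace Cfsg.Agent.H793

open Cfsg Cfsg.Agent.H50.Her CoxeterSystem Cfsg.Agent.ChevalleyStructure.CoxeterGeom Cfsg.Agent.Tits.Roots
  Cfsg.Agent.Tits.Core Cfsg.Agent.LieRecognition.BNCox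

section G2

open Cfsg.Agent.Nodes.RGDChev Cfsg.Agent.ClosedExc.Chev

theorem pan_group {D : Lie.ChevalleyDatum} {l : ℕ} {M : CoxeterMatrix (Fin l)} (hp : IsType D l M) (K : Type)
    [Field K] [Finite K] (p : ℕ) [CharP K p] : HasPan p M (fun _ => Nat.card K) ↥(D.group K) := by
  have : Fact p.Prime := ⟨CharP.char_is_prime K p⟩
  have : Fintype K := Fintype.ofFinite K
  refine ⟨_, hp.isCartan, _, _, _, finite_W hp M.toCoxeterSystem, rgd (K := K) hp M.toCoxeterSystem p,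
    G1_eq_top hp _, fun s hs t ht => torus_comm hp K s hs t ht, fun i => ?_, fun i => ?_⟩
  · have h1 := range_phi (K := K) hp i
    have h2 : (⟨nn hp K i, nn_mem_group hp i⟩ : ↥(D.group K)) ∈ (OddHalf.LongSL.Chev.phi (K := K) hp i).range :=
      ⟨_, Subtype.ext (phi_n hp K i)⟩
    rw [h1] at h2
    exact h2
  · exact (card_XX hp K M.toCoxeterSystem (isRoot_sr _ hp.isCartan i)).trans Nat.card_eq_fintype_card.symm

end G2

theorem pan_g2 (K : Type) [Field K] [Finite K] (p : ℕ) [CharP K p] :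
    HasPan p CoxeterMatrix.G₂ (fun _ => Nat.card K) ↥(Cfsg.Lie.chevG2.group K) :=
  pan_group (by simp [Cfsg.Agent.Nodes.RGDChev.IsType, Cfsg.Agent.Nodes.RGDChev.typeList]) K p

section TwD4

open Cfsg.Lie Cfsg.Agent.ChevalleyStructure Cfsg.Agent.Nodes.RGDFold Cfsg.Agent.Nodes.RGDTwD4
open Cfsg.Agent.Nodes.RGDChev (nn)
open Cfsg.Agent.ClosedExc.Frame Cfsg.Agent.ClosedExc.FoldInst Cfsg.Agent.ClosedExc.TwD4
open Cfsg.Agent.Nodes.Reps Cfsg.Agent.Nodes.BNOf Cfsg.Agent.Nodes.FreeTorus Cfsg.Agent.Nodes.Bruhat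
open Cfsg.Agent.ChevalleyStructure.Elts Cfsg.Agent.ChevalleyStructure.TwistedU Cfsg.Agent.ChevalleyStructure.NPerm
open Cfsg.Agent.OddHalf.LongSL.Fold (FF goodS mem_FF psi0 psi0_up psi0_lo)

variable {K : Type} [Field K] {q : ℕ} {φ : K →+* K} (hφ : ∀ x, φ x = x ^ q) (hle : twistedD4 K q ≤ D4Fixed.fix φ)

/-- `n` in `SL₂`. -/
def wSL (F : Type*) [Field F] : Matrix.SpecialLinearGroup (Fin 2) F := SL2Hom.up 1 * SL2Hom.lo (-1) * SL2Hom.up 1

include hφ hle

theorem n_zero_mem : n (K := K) hφ 0 ∈ LL (X φ q) (sr 0) := by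
  have h1 : (n (K := K) hφ 0 : GL chevD4.Idx K) = psi0 (hp := hp) 1 φ (wSL _) := by
    rw [wSL, map_mul, map_mul, psi0_up, psi0_lo]
    show nI hp K (J 0) = _
    show ([1].map (nn hp K)).prod = _
    rw [List.map_cons, List.map_nil, List.prod_cons, List.prod_nil, mul_one, nn, nG_def, inv_one, mul_assoc]
    rfl
  let ψ : Matrix.SpecialLinearGroup (Fin 2) (FF φ) →* ↥(twistedD4 K q) :=
    (psi0 (hp := hp) 1 φ).codRestrict _ (f0_mem hφ hle)
  have h2 : n (K := K) hφ 0 = ψ (wSL _) := Subtype.ext h1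
  rw [h2]
  have h3 : wSL (FF φ) ∈ (LL (X φ q) (sr 0)).comap ψ := by
    refine (Subgroup.closure_le _).2 ?_ (SL2Hom.mem_closure_SL2 _)
    rintro x (⟨t, rfl⟩ | ⟨t, rfl⟩)
    · refine Subgroup.mem_sup_left ((mem_X0 hφ hle _).2 ⟨t, ?_⟩)
      show psi0 (hp := hp) 1 φ _ = _
      rw [psi0_up]
      show xG hp.inList (chevD4.simple 1) (t : K) = _
      rw [simples.2.1]
    · refine Subgroup.mem_sup_right ((mem_X0' hφ hle _).2 ⟨t, ?_⟩)
      show psi0 (hp := hp) 1 φ _ = _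
      rw [psi0_lo]
      show xG hp.inList (chevD4.neg (chevD4.simple 1)) (t : K) = _
      rw [simples.2.1, negs.2.1]
  exact h3

theorem n_one_mem : n (K := K) hφ 1 ∈ LL (X φ q) (sr 1) := by
  have hw : ∀ j : Fin 4, ph K j (wSL K) = nn hp K j := by
    intro j
    rw [wSL, map_mul, map_mul, ph_up, ph_lo, nn, nG_def, inv_one, mul_assoc]
  have hm : Matrix.SpecialLinearGroup.map φ (wSL K) = wSL K := by
    rw [wSL, map_mul, map_mul, map_up, map_lo, map_one, map_neg, map_one]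
  have h1 : (n (K := K) hφ 1 : GL chevD4.Idx K) = psi1 φ (wSL K) := by
    rw [psi1_apply, hm, hm, hw, hw, hw]
    show nI hp K (J 1) = _
    show ([0, 2, 3].map (nn hp K)).prod = _
    rw [List.map_cons, List.map_cons, List.map_cons, List.map_nil, List.prod_cons, List.prod_cons, List.prod_cons,
      List.prod_nil, mul_one, ← mul_assoc]
  let ψ : Matrix.SpecialLinearGroup (Fin 2) K →* ↥(twistedD4 K q) := (psi1 φ).codRestrict _ (f1_mem hφ hle)
  have h2 : n (K := K) hφ 1 = ψ (wSL _) := Subtype.ext h1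
  rw [h2]
  have h3 : wSL K ∈ (LL (X φ q) (sr 1)).comap ψ := by
    refine (Subgroup.closure_le _).2 ?_ (SL2Hom.mem_closure_SL2 _)
    rintro x (⟨t, rfl⟩ | ⟨t, rfl⟩)
    · refine Subgroup.mem_sup_left ((mem_X1 hφ hle _).2 ⟨t, ?_⟩)
      show psi1 φ _ = _
      rw [psi1_up]
    · refine Subgroup.mem_sup_right ((mem_X1' hφ hle _).2 ⟨t, ?_⟩)
      show psi1 φ _ = _
      rw [psi1_lo]
  exact h3

omit hφ hle in
theorem pan_twD4 {K : Type} [Field K] [Fintype K] {q : ℕ} (hq : IsPrimePow q) (hK : Fintype.card K = q ^ 3)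
    (p : ℕ) [CharP K p] : HasPan p CoxeterMatrix.G₂ (fun i => if i = 0 then q else q ^ 3) ↥(Lie.twistedD4 K q) := by
  obtain ⟨φ, hφ⟩ := Cfsg.Agent.ChevalleyStructure.D4Fixed.exists_frob hq hK
  have : Fact p.Prime := ⟨CharP.char_is_prime K p⟩
  have hle := D4Fixed.twisted_le_fix hK hφ
  refine ⟨_, isCartan, T K q, n hφ, X φ q,
    finite_W (hp := hp) (CoxeterMatrix.G₂).toCoxeterSystem isCartan foldData,
    Cfsg.Agent.Nodes.RGDTwD4.rgd _ hK hφ p, Cfsg.Agent.Nodes.RGDTwD4.G1_eq_top _ hK hφ,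
    fun s hs t ht => torus_comm hp s hs t ht, fun i => ?_, fun i => ?_⟩
  · fin_cases i
    · exact n_zero_mem hφ hle
    · exact n_one_mem hφ hle
  · fin_cases i
    · exact card_X0 hφ hle hq.two_le hK
    · exact (card_X1 hφ hle).trans hK

end TwD4

end Cfsg.Agent.H793
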