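import Cfsg.Agent.H793.PearlC
import Cfsg.Agent.S0120
import Cfsg.Agent.H467.MaxClassPower2

/-!
# The prime 3 in S5267 (helper793)

* `ess_cent_omega` : for `p` odd and `E` essential, elements of `N_S(E)` centralising all elements of order `p` of
  `E` are in `E`;
* `core_three` : `Core 3`.
-/

set_option autoImplicit false

namespace Cfsg.Agent.H793.CoreThree

open Cfsg Cfsg.FusionSystem Cfsg.Agent.H802 Cfsg.Agent.H467.MaxClass Cfsg.Agent.H766
open scoped commutatorElement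

universe u

/-- An automorphism of a `p`-group, `p` odd, trivial on the elements of order `p`, has `p`-power order. -/
theorem pow_eq_one_of_omega {X : Type*} [Group X] [Finite X] {p : ℕ} [hp : Fact p.Prime] (hp2 : p ≠ 2)
    (hX : IsPGroup p X) (a : MulAut X) (h : ∀ x : X, x ^ p = 1 → a x = x) : ∃ k : ℕ, a ^ p ^ k = 1 := by
  have hfin : Finite (MulAut X) := inferInstance
  have hpos : 0 < orderOf a := orderOf_pos a
  obtain ⟨k, m, hm, hk⟩ := Nat.exists_eq_pow_mul_and_not_dvd hpos.ne' p hp.out.ne_one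
  refine ⟨k, Cfsg.Agent.S0120.result hp2 hX (a ^ p ^ k) ?_ ?_⟩
  · rw [orderOf_pow, hk]
    have h1 : Nat.gcd (p ^ k * m) (p ^ k) = p ^ k := Nat.gcd_eq_right ⟨m, rfl⟩
    rw [h1, Nat.mul_div_cancel_left _ (pow_pos hp.out.pos k), Nat.coprime_comm]
    exact (Nat.Prime.coprime_iff_not_dvd hp.out).2 hm
  · intro x hx
    have key : ∀ n : ℕ, (a ^ n) x = x := by
      intro n
      induction n with
      | zero => simp
      | succ n ih =>
        rw [pow_succ, MulAut.mul_apply, h x hx, ih]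
    exact key _

variable {Ω : Type*} [Group Ω] {S : Subgroup Ω}

/-- Elements of `N_S(E)` inducing an automorphism in a normal `p`-subgroup of `Aut_F(E)` are in `E`. -/
theorem mem_of_normal_pGroup {p : ℕ} [hp : Fact p.Prime] [Finite S] {F : FusionSystem S}
    {E : Subgroup Ω} (hE : F.IsEssential p E) (N : Subgroup (F.autGroup E)) [hNn : N.Normal]
    (hN : IsPGroup p N) {t : Ω} (ht : t ∈ S) (α : F.autGroup E) (hα : α ∈ N)
    (hαt : ∀ x : E, (((α : MulAut E) x : E) : Ω) = t * x * t⁻¹) : t ∈ E := by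
  have hle := ess_le hE
  have h1 := ess_core hE N hN hα
  obtain ⟨e, he⟩ := h1
  have h2 : ∀ x : E, (e : Ω) * x * (e : Ω)⁻¹ = t * x * t⁻¹ := by
    intro x
    rw [← hαt x]
    have := DFunLike.congr_fun he x
    exact congrArg Subtype.val this
  have h3 : (e : Ω)⁻¹ * t ∈ E := by
    apply ess_centralizerIn_le hE
    refine ⟨S.mul_mem (S.inv_mem (hle e.2)) ht, Subgroup.mem_centralizer_iff.2 fun x hx => ?_⟩
    have h4 := h2 ⟨x, hx⟩
    have h5 : (e : Ω) * x * (e : Ω)⁻¹ = t * x * t⁻¹ := h4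
    calc x * ((e : Ω)⁻¹ * t) = (e : Ω)⁻¹ * ((e : Ω) * x * (e : Ω)⁻¹) * t := by group
      _ = (e : Ω)⁻¹ * (t * x * t⁻¹) * t := by rw [h5]
      _ = (e : Ω)⁻¹ * t * x := by group
  have := E.mul_mem e.2 h3
  rwa [mul_inv_cancel_left] at this

/-- For `p` odd and `E` essential, the elements of `N_S(E)` centralising all elements of order `p` of `E` are in
`E`. -/
theorem ess_cent_omega {p : ℕ} [hp : Fact p.Prime] [Finite S] (hp2 : p ≠ 2) (hS : IsPGroup p S)
    {F : FusionSystem S} {E : Subgroup Ω} (hE : F.IsEssential p E) {t : Ω} (ht : t ∈ normalizerIn S E)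
    (hc : ∀ x ∈ E, x ^ p = 1 → t * x = x * t) : t ∈ E := by
  have hle := ess_le hE
  have hfE : Finite E := finite_of_le hle
  have hEp : IsPGroup p E := hS.to_le hle
  let N : Subgroup (F.autGroup E) :=
    { carrier := {α | ∀ x : E, x ^ p = 1 → (α : MulAut E) x = x}
      one_mem' := fun x _ => rfl
      mul_mem' := by
        intro a b ha hb x hx
        show (a : MulAut E) ((b : MulAut E) x) = x
        rw [hb x hx, ha x hx]
      inv_mem' := by
        intro a ha x hx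
        show (a : MulAut E)⁻¹ x = x
        rw [MulAut.inv_apply]
        exact (MulEquiv.symm_apply_eq _).2 (ha x hx).symm }
  have hNn : N.Normal := by
    refine ⟨fun a ha g x hx => ?_⟩
    show (g : MulAut E) ((a : MulAut E) ((g : MulAut E)⁻¹ x)) = x
    have h1 : ((g : MulAut E)⁻¹ x) ^ p = 1 := by rw [← map_pow, hx, map_one]
    have h2 : (a : MulAut E) ((g : MulAut E)⁻¹ x) = (g : MulAut E)⁻¹ x := ha _ h1
    rw [h2, MulAut.apply_inv_self]
  have hNp : IsPGroup p N := by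
    rintro ⟨a, ha⟩
    obtain ⟨k, hk⟩ := pow_eq_one_of_omega hp2 hEp (a : MulAut E) ha
    exact ⟨k, Subtype.ext (Subtype.ext hk)⟩
  obtain ⟨κ, hκ⟩ := Cfsg.Agent.H802.exists_conjAut ht.2
  have hκA : κ ∈ F.autGroup E := autInducedBy_le_autGroup F hle (conj_mem_autInducedBy ht.1 hκ)
  refine mem_of_normal_pGroup hE N hNp ht.1 ⟨κ, hκA⟩ ?_ hκ
  intro x hx
  apply Subtype.ext
  show ((κ x : E) : Ω) = x
  rw [hκ, hc x x.2 (congrArg Subtype.val hx), mul_inv_cancel_right]

/-- In a group of maximal class of order at least `p ^ (p + 2)`, `Ω₁(W 1) = W (n - p + 1)`. -/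
theorem mem_of_pow_eq_one {P : Type*} [Group P] [Finite P] {p n : ℕ} {W : ℕ → Subgroup P}
    (h : MC P p n W) [hp : Fact p.Prime] (hp3 : 3 ≤ p) (hn : p + 2 ≤ n) {x : P} (hx : x ∈ W 1)
    (hxp : x ^ p = 1) : x ∈ W (n - p + 1) := by
  have key : ∀ j, 1 ≤ j → j ≤ n - p + 1 → x ∈ W j := by
    intro j hj
    induction j, hj using Nat.le_induction with
    | base => intro _; exact hx
    | succ j hj ih =>
      intro hjn
      by_contra hcon
      apply h.pow_notMem_one hp3 hn hj (by omega) (ih (by omega)) hcon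
      rw [hxp]
      exact one_mem _
  exact key _ (by omega) le_rfl

/-- `Core` for `p = 3`. -/
theorem core_three {Ω : Type u} [Group Ω] {S : Subgroup Ω} [Finite S] (hS : IsPGroup 3 ↥S) (n : ℕ)
    (hn : Nat.card S = 3 ^ n) (h4 : 4 ≤ n) (hmax : Subgroup.lowerCentralSeries S (n - 2) ≠ ⊥)
    (F : Cfsg.FusionSystem S) (Γ₁ : Subgroup Ω)
    (hΓ₁ : ∀ x : Ω, x ∈ Γ₁ ↔ x ∈ S ∧
      ∀ y ∈ Subgroup.lowerCentralSeries S 1, x * y * x⁻¹ * y⁻¹ ∈ Subgroup.lowerCentralSeries S 3) :
    Cfsg.Agent.H793.PearlC.Core 3 S F Γ₁ := by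
  have hp : Fact (Nat.Prime 3) := ⟨Nat.prime_three⟩
  have h := Cfsg.Agent.H793.PearlB.mcS hn h4 hmax
  have hK : h.Ksub (n - 2) = chain S 1 := by
    rcases Nat.lt_or_ge n 5 with h5 | h5
    · have hn4 : n = 4 := by omega
      subst hn4
      exact Cfsg.Agent.H797.MaxParity.Ksub_two h
    · exact h.Ksub_last_of_le le_rfl (by omega)
  have hC : (S ⊓ Subgroup.centralizer (((Subgroup.upperCentralSeries ↥S 2).map S.subtype) : Set Ω)) = Γ₁ := by
    ext x
    rw [Cfsg.Agent.H793.PearlB.gam_eq hΓ₁, Cfsg.Agent.H797.MaxOmega.mem_V,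
      Cfsg.Agent.H793.PearlB.mem_cz hn h4 hmax, hK]
  intro E hE hle
  rw [hC, or_self] at hle
  have hES := ess_le hE
  have hfE : Finite E := finite_of_le hES
  have hΓ := Cfsg.Agent.H793.PearlB.gam_eq hΓ₁
  have hΓS : Γ₁ ≤ S := by rw [hΓ]; exact Cfsg.Agent.H797.MaxOmega.V_le 1
  have hfΓ : Finite Γ₁ := finite_of_le hΓS
  by_cases hEΓ : E = Γ₁
  · exact Or.inr (Or.inr (Or.inl hEΓ))
  have hΓc : Nat.card Γ₁ = 3 ^ (n - 1) := by
    have := Cfsg.Agent.H797.MaxOmega.V_card h (n - 1) (by omega)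
    rw [show n - (n - 1) = 1 by omega] at this
    rw [hΓ]
    exact this
  rcases Nat.lt_or_ge n 5 with h5 | h5
  · -- `n = 4`
    left
    have hn4 : n = 4 := by omega
    subst hn4
    have hEp : IsPGroup 3 E := hS.to_le hES
    obtain ⟨k, hkE⟩ := IsPGroup.iff_card.1 hEp
    obtain ⟨hf1, hf2⟩ := Cfsg.Agent.H766.ess_frattini_index hS hE
    have hfd : (frattini E).index ∣ 3 ^ k := by rw [← hkE]; exact Subgroup.index_dvd_card _
    have hk3 : k < 3 := by
      have h6 : E < Γ₁ := lt_of_le_of_ne hle hEΓ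
      by_contra hcon
      push Not at hcon
      apply hEΓ
      apply Subgroup.eq_of_le_of_card_ge hle
      rw [hΓc, hkE]
      exact Nat.pow_le_pow_right (by norm_num) (by omega)
    interval_cases k
    · rw [pow_zero, Nat.dvd_one] at hfd
      exact absurd hfd hf1
    · rw [pow_one] at hfd
      rcases (Nat.dvd_prime Nat.prime_three).1 hfd with h6 | h6
      · exact absurd h6 hf1
      · exact absurd h6 hf2
    · refine ⟨hkE, ?_⟩
      have h1 := Cfsg.Agent.H766.ess_frattini_eq_bot_of_card_sq hS hE hkE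
      obtain ⟨h2, h3⟩ := Cfsg.Agent.H766.mul_comm_of_frattini_eq_bot hEp h1
      refine ⟨⟨⟨fun x y => h2 x y⟩⟩, fun a ha => ?_⟩
      exact congrArg Subtype.val (h3 ⟨a, ha⟩)
  · -- `n ≥ 5`
    exfalso
    have hlt := card_lt_card_normalizerIn (hS.to_le hΓS) hle hEΓ
    obtain ⟨t, ht, htE⟩ : ∃ t ∈ normalizerIn Γ₁ E, t ∉ E := by
      by_contra hno
      push Not at hno
      have hle' : normalizerIn Γ₁ E ≤ E := hno
      exact absurd (Subgroup.card_le_of_le hle') (not_le.2 hlt)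
    apply htE
    refine ess_cent_omega (by norm_num) hS hE (t := t) ⟨hΓS ht.1, ht.2⟩ ?_
    intro x hx hx3
    have hxΓ := hle hx
    rw [hΓ, Cfsg.Agent.H797.MaxOmega.mem_V] at hxΓ
    obtain ⟨hxS, hxW⟩ := hxΓ
    have h1 := mem_of_pow_eq_one h le_rfl (by omega) hxW (Subtype.ext hx3)
    rw [show n - 3 + 1 = n - 2 by omega] at h1
    have htΓ : t ∈ Γ₁ := ht.1
    rw [hΓ, Cfsg.Agent.H797.MaxOmega.mem_V] at htΓ
    obtain ⟨htS, htW⟩ := htΓ
    rw [← hK] at htW
    have h2 := htW _ h1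
    rw [show n - 2 + 2 = n by omega, h.bot, Subgroup.mem_bot, commutatorElement_eq_one_iff_mul_comm] at h2
    exact (congrArg Subtype.val h2).symm

end Cfsg.Agent.H793.CoreThree
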