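import Cfsg.Agent.H793.ExcD

/-!
# Exceptional groups of maximal class: essential subgroups of `C`, end (helper793)
-/

set_option autoImplicit false

namespace Cfsg.Agent.H793.ExcA

open Cfsg Cfsg.FusionSystem Cfsg.Agent.H802 Cfsg.Agent.H766 Cfsg.Agent.H467.MaxClass
open Cfsg.Agent.H797.MaxOmega Cfsg.Agent.H797.MaxParity
open scoped commutatorElement

universe u

variable {Ω : Type u} [Group Ω] {S : Subgroup Ω} {p n : ℕ} {W : ℕ → Subgroup S}

theorem not_le_of_ne [Finite S] (h : MC S p n W) [hp : Fact p.Prime] (hne : h.Ksub (n - 2) ≠ W 1) :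
    ¬ V W 1 ≤ C h := by
  have h4 := h.four_le
  intro hle
  apply hne
  apply h.eq_W1 _ (h.Ksub_ne_top' (by omega) (by omega))
  intro y hy
  obtain ⟨z, hz, hzy⟩ := hle ⟨y, hy, rfl⟩
  rwa [← Subtype.ext hzy]

/-- an element of `C` outside `V 1` -/
theorem exists_notMem [Finite S] (h : MC S p n W) [hp : Fact p.Prime] (hne : h.Ksub (n - 2) ≠ W 1) :
    ∃ x ∈ C h, x ∉ V W 1 := by
  have h4 := h.four_le
  by_contra hcon
  push Not at hcon
  have hle : C h ≤ V W 1 := hcon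
  have h1 : h.Ksub (n - 2) ≤ W 1 := by
    intro y hy
    obtain ⟨_, h2⟩ := mem_V.1 (hle ⟨y, hy, rfl⟩)
    exact h2
  rcases (Nat.dvd_prime hp.out).1 (Ksub_index_dvd h) with h3 | h3
  · exact absurd (Subgroup.index_eq_one.1 h3) (h.Ksub_ne_top' (by omega) (by omega))
  · have h5 := Subgroup.relIndex_mul_index h1
    rw [h3, h.W1_index] at h5
    have h6 : (h.Ksub (n - 2)).relIndex (W 1) = 1 := by
      apply Nat.eq_of_mul_eq_mul_right hp.out.pos
      rw [h5, one_mul]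
    exact hne (le_antisymm h1 (Subgroup.relIndex_eq_one.1 h6))

/-- `n = 6`, `C` essential: `⟨x⟩ V 3` is not essential -/
theorem Side.not_six [Finite S] (hS : IsPGroup p S) {h : MC S p 6 W} [hp : Fact p.Prime] (hp3 : 3 ≤ p)
    (hne : h.Ksub 4 ≠ W 1) {F : FusionSystem S} (hF : F.IsSaturated p) {E : Subgroup Ω}
    (hE : F.IsEssential p E) {x : Ω} (s : Side h E x) (hj : E ⊓ V W 1 = V W 3)
    (hC : F.IsEssential p (C h)) : False := by
  have hneC := not_le_of_ne h hne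
  have hCS := C_le h
  have hfC : Finite (C h) := finite_of_le hCS
  have hfE : Finite E := finite_of_le s.leS
  have hCp : IsPGroup p (C h) := hS.to_le hCS
  have hV2C : V W 2 ≤ C h := fun v hv => C_normal_or h v hv
  have sC : Side h (C h) x := ⟨le_rfl, s.le s.mem, s.notMem, (V_anti h (by omega)).trans hV2C⟩
  have hjC : C h ⊓ V W 1 = V W 2 := by
    apply le_antisymm
    · intro y hy
      exact inf_eq h hneC hy.2 hy.1
    · exact le_inf hV2C (V_anti h (by omega))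
  have hcardC : Nat.card (C h) = p ^ 5 := sC.card hjC (by omega)
  have hcardE : Nat.card E = p ^ 4 := s.card hj (by omega)
  obtain ⟨w, hw, hw'⟩ := V_ne h (i := 2) (by omega)
  -- `V 3 ≤ Φ(C)`
  have hxC : x ∈ C h := s.le s.mem
  have hwC : w ∈ C h := hV2C hw
  have hD : ∀ u (hu : u ∈ C h) v (hv : v ∈ C h), (⁅(⟨u, hu⟩ : C h), (⟨v, hv⟩ : C h)⁆ : C h) ∈ frattini (C h) := by
    intro u hu v hv
    exact Cfsg.Agent.Lib.FrattiniPGroup.commutator_le_frattini hCp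
      (Subgroup.commutator_mem_commutator (Subgroup.mem_top _) (Subgroup.mem_top _))
  have hw3 : ⁅w, x⁆ ∈ V W 3 := V_comm_S h hw s.xS
  have hw3' : ⁅w, x⁆ ∉ V W 4 := comm_notMem h hp3 s.xS s.notMem (i := 2) (by omega) (by omega) hw hw'
  have hw3C : ⁅w, x⁆ ∈ C h := hV2C (V_anti h (by omega) hw3)
  have hw4 : ⁅⁅w, x⁆, x⁆ ∈ V W 4 := V_comm_S h hw3 s.xS
  have hw4' : ⁅⁅w, x⁆, x⁆ ∉ V W 5 :=
    comm_notMem h hp3 s.xS s.notMem (i := 3) (by omega) (by omega) hw3 hw3'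
  have hw4C : ⁅⁅w, x⁆, x⁆ ∈ C h := hV2C (V_anti h (by omega) hw4)
  have hw5 : ⁅w, ⁅w, x⁆⁆ ∈ V W 5 := V_comm h hw hw3
  have hw5' : ⁅w, ⁅w, x⁆⁆ ∉ V W 6 := by
    rw [V_bot h le_rfl, Subgroup.mem_bot]
    exact V_pairing h hp3 hne (i := 2) (j := 3) (by omega) (by omega) (by omega) hw hw' hw3 hw3'
  have hw5C : ⁅w, ⁅w, x⁆⁆ ∈ C h := hV2C (V_anti h (by omega) hw5)
  have key5 : ∀ v : C h, (v : Ω) ∈ V W 5 → v ∈ frattini (C h) := by
    intro v hv
    obtain ⟨k, hk⟩ := V_gen h (i := 5) (by omega) hw5 hw5' hv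
    rw [V_bot h le_rfl, Subgroup.mem_bot, inv_mul_eq_one] at hk
    have h1 : v = (⟨⁅w, ⁅w, x⁆⁆, hw5C⟩ : C h) ^ k := Subtype.ext hk.symm
    rw [h1]
    exact Subgroup.zpow_mem _ (hD w hwC _ hw3C) k
  have key4 : ∀ v : C h, (v : Ω) ∈ V W 4 → v ∈ frattini (C h) := by
    intro v hv
    obtain ⟨k, hk⟩ := V_gen h (i := 4) (by omega) hw4 hw4' hv
    have h1 := key5 (((⟨⁅⁅w, x⁆, x⁆, hw4C⟩ : C h) ^ k)⁻¹ * v) hk
    have h2 := Subgroup.mul_mem _ (Subgroup.zpow_mem _ (hD _ hw3C x hxC) k) h1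
    have h3 : (⟨⁅⁅w, x⁆, x⁆, hw4C⟩ : C h) ^ k * (((⟨⁅⁅w, x⁆, x⁆, hw4C⟩ : C h) ^ k)⁻¹ * v) = v :=
      mul_inv_cancel_left _ _
    rw [← h3]
    exact h2
  have key3 : ∀ v : C h, (v : Ω) ∈ V W 3 → v ∈ frattini (C h) := by
    intro v hv
    obtain ⟨k, hk⟩ := V_gen h (i := 3) (by omega) hw3 hw3' hv
    have h1 := key4 (((⟨⁅w, x⁆, hw3C⟩ : C h) ^ k)⁻¹ * v) hk
    have h2 := Subgroup.mul_mem _ (Subgroup.zpow_mem _ (hD w hwC x hxC) k) h1
    have h3 : (⟨⁅w, x⁆, hw3C⟩ : C h) ^ k * (((⟨⁅w, x⁆, hw3C⟩ : C h) ^ k)⁻¹ * v) = v :=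
      mul_inv_cancel_left _ _
    rw [← h3]
    exact h2
  have hle3 : (V W 3).subgroupOf (C h) ≤ frattini (C h) := fun v hv => key3 v hv
  -- indices
  have hidx3 : ((V W 3).subgroupOf (C h)).index = p ^ 2 := by
    have h1 := Subgroup.card_mul_index ((V W 3).subgroupOf (C h))
    rw [Nat.card_congr (Subgroup.subgroupOfEquivOfLe ((V_anti h (by omega)).trans hV2C :
      V W 3 ≤ C h)).toEquiv, hcardC] at h1
    have h2 : Nat.card (V W 3) = p ^ 3 := V_card h 3 (by omega)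
    rw [h2] at h1
    have h3 : p ^ 3 * ((V W 3).subgroupOf (C h)).index = p ^ 3 * p ^ 2 := by rw [h1]; ring
    exact Nat.eq_of_mul_eq_mul_left (pow_pos hp.out.pos 3) h3
  have hidx : (frattini (C h)).index = p ^ 2 := by
    have h1 := Subgroup.index_dvd_of_le hle3
    rw [hidx3] at h1
    obtain ⟨h2, h3⟩ := ess_frattini_index hS hC
    obtain ⟨r, hr, hr2⟩ := (Nat.dvd_prime_pow hp.out).1 h1
    rw [hr2] at h2 h3 ⊢
    congr 1
    have : r ≠ 0 := by rintro rfl; exact h2 (pow_zero p)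
    have : r ≠ 1 := by rintro rfl; exact h3 (pow_one p)
    omega
  have heqΦ : (V W 3).subgroupOf (C h) = frattini (C h) := by
    have h1 := Subgroup.relIndex_mul_index hle3
    rw [hidx, hidx3] at h1
    have h2 : ((V W 3).subgroupOf (C h)).relIndex (frattini (C h)) = 1 := by
      apply Nat.eq_of_mul_eq_mul_right (pow_pos hp.out.pos 2)
      rw [h1, one_mul]
    exact le_antisymm hle3 (Subgroup.relIndex_eq_one.1 h2)
  obtain ⟨x0, y0, e, hfr⟩ := exists_frame hS hF hC hidx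
  have hxΦ : (⟨x, hxC⟩ : C h) ∉ frattini (C h) := by
    rw [← heqΦ, Subgroup.mem_subgroupOf]
    intro hh
    exact s.notMem (V_anti h (by omega) hh)
  have hwΦ : (⟨w, hwC⟩ : C h) ∉ frattini (C h) := by
    rw [← heqΦ, Subgroup.mem_subgroupOf]
    exact hw'
  obtain ⟨α, hα, hαe⟩ := hfr.trans hxΦ hwΦ
  -- the image of `E`
  have hΦα : ∀ v : C h, (v : Ω) ∈ V W 3 → ((α v : C h) : Ω) ∈ V W 3 := by
    intro v hv
    have h1 : v ∈ frattini (C h) := key3 v hv
    have h2 : α v ∈ frattini (C h) :=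
      Subgroup.characteristic_iff_map_le.1 (inferInstance : (frattini (C h)).Characteristic) α ⟨v, h1, rfl⟩
    rw [← heqΦ] at h2
    exact h2
  have hαx : ((α ⟨x, hxC⟩ : C h) : Ω) ∈ V W 2 := by
    have h1 : (⟨w, hwC⟩ : C h)⁻¹ * α ⟨x, hxC⟩ ∈ frattini (C h) := QuotientGroup.eq.1 hαe.symm
    rw [← heqΦ, Subgroup.mem_subgroupOf] at h1
    have h2 := (V W 2).mul_mem hw (V_anti h (by omega) h1)
    have h3 : w * (((⟨w, hwC⟩ : C h)⁻¹ * α ⟨x, hxC⟩ : C h) : Ω) = (α ⟨x, hxC⟩ : C h) :=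
      mul_inv_cancel_left w _
    rwa [h3] at h2
  set φ : E →* Ω := ((C h).subtype.comp α.toMonoidHom).comp (Subgroup.inclusion s.le) with hφ
  have hφF : φ ∈ F.Hom E := restrict_mem ((mem_autGroup_iff F hCS α).1 hα) s.le
  have hφr : φ.range = V W 2 := by
    have hle : φ.range ≤ V W 2 := by
      rintro _ ⟨y, rfl⟩
      obtain ⟨k, hk⟩ := gen_zero h s.xS s.notMem (s.leS y.2)
      have h1 : (x ^ k)⁻¹ * (y : Ω) ∈ E := E.mul_mem (E.inv_mem (E.zpow_mem s.mem k)) y.2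
      have h2 : (x ^ k)⁻¹ * (y : Ω) ∈ V W 3 := by rw [← hj]; exact ⟨h1, hk⟩
      have h3 : (⟨y, s.le y.2⟩ : C h) = (⟨x, hxC⟩ : C h) ^ k * ⟨(x ^ k)⁻¹ * (y : Ω), s.le h1⟩ := by
        apply Subtype.ext
        show (y : Ω) = x ^ k * ((x ^ k)⁻¹ * y)
        rw [mul_inv_cancel_left]
      show ((α ⟨y, s.le y.2⟩ : C h) : Ω) ∈ V W 2
      rw [h3, map_mul, map_zpow]
      exact (V W 2).mul_mem ((V W 2).zpow_mem hαx k) (V_anti h (by omega) (hΦα _ h2))
    have hfV : Finite (V W 2) := finite_of_le (V_le 2)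
    apply Subgroup.eq_of_le_of_card_ge hle
    have h1 : Nat.card E = Nat.card φ.range :=
      Nat.card_congr (MonoidHom.ofInjective (F.injective_of_mem hφF)).toEquiv
    rw [← h1, hcardE]
    exact (V_card h 4 (by omega)).le
  have h1 := hE.2.1.2 (V W 2) ⟨φ, hφF, hφr⟩
  rw [Cfsg.Agent.H797.MaxEss.V_normalizerIn h 2, h.card_group] at h1
  -- `N_S(E) ≤ C`
  have hNC : normalizerIn S E ≤ C h := by
    intro g hg
    obtain ⟨k, hk⟩ := s.normalizer hp3 hj (by omega) hg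
    have h1 : (x ^ k)⁻¹ * g ∈ C h := hV2C hk
    have h2 := (C h).mul_mem ((C h).zpow_mem hxC k) h1
    rwa [mul_inv_cancel_left] at h2
  have h2 := Subgroup.card_le_of_le hNC
  rw [hcardC] at h2
  have h3 := (Nat.pow_le_pow_iff_right hp.out.one_lt).1 (h1.trans h2)
  omega

/-- elements of `S` outside `V 1` and `C` make `E` a pearl of order `p ^ 2` -/
theorem card_of_not_le [Finite S] (hS : IsPGroup p S) (h : MC S p n W) [hp : Fact p.Prime] (hp3 : 3 ≤ p)
    {F : FusionSystem S} {E : Subgroup Ω} (hE : F.IsEssential p E)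
    (h1 : ¬ E ≤ V W 1) (h2 : ¬ E ≤ C h) : Nat.card E ≤ p ^ 3 := by
  have h4 := h.four_le
  have hle := ess_le hE
  obtain ⟨a, ha, ha1⟩ := Set.not_subset.1 h1
  obtain ⟨b, hb, hb1⟩ := Set.not_subset.1 h2
  obtain ⟨y, hy, hy1, hy2⟩ : ∃ y ∈ E, y ∉ V W 1 ∧ y ∉ C h := by
    by_contra hcon
    push Not at hcon
    have ha2 := hcon a ha ha1
    have hb2 : b ∈ V W 1 := by
      by_contra hb2
      exact hb1 (hcon b hb hb2)
    have hab : a * b ∈ E := E.mul_mem ha hb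
    by_cases h3 : a * b ∈ V W 1
    · apply ha1
      have := (V W 1).mul_mem h3 ((V W 1).inv_mem hb2)
      rwa [mul_inv_cancel_right] at this
    · have h4' := hcon _ hab h3
      apply hb1
      have := Subgroup.mul_mem _ (Subgroup.inv_mem _ ha2) h4'
      rwa [inv_mul_cancel_left] at this
  have hyS := hle hy
  have hyW : (⟨y, hyS⟩ : S) ∉ W 1 := fun hh => hy1 (mem_V.2 ⟨hyS, hh⟩)
  have hyK : (⟨y, hyS⟩ : S) ∉ h.Ksub (n - 2) := fun hh => hy2 ⟨_, hh, rfl⟩
  have h5 := h.card_centralizer_of_notMem hyW (h.notMem_Ksub hp3 hyW hyK)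
  have hfE : Finite E := finite_of_le hle
  have h6 := Cfsg.Agent.H793.PearlA.pearl_of_centralizer hS hE (x := ⟨y, hy⟩) (by
    refine le_trans ?_ h5.le
    let f : Subgroup.centralizer ({(⟨y, hy⟩ : E)} : Set E) →
        Subgroup.centralizer ({(⟨y, hyS⟩ : S)} : Set S) := fun z => ⟨⟨(z : E), hle (z : E).2⟩, by
      rw [Subgroup.mem_centralizer_singleton_iff]
      have h2 := Subgroup.mem_centralizer_singleton_iff.1 z.2
      exact Subtype.ext (congrArg (fun z : E => (z : Ω)) h2)⟩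
    refine Nat.card_le_card_of_injective f ?_
    intro z w hzw
    apply Subtype.ext
    apply Subtype.ext
    exact congrArg (fun u : Subgroup.centralizer ({(⟨y, hyS⟩ : S)} : Set S) => ((u : S) : Ω)) hzw)
  rcases h6 with h6 | h6
  · rw [h6.1]
    exact Nat.pow_le_pow_right hp.out.pos (by omega)
  · rw [h6.1]

/-- **(E2)**: in an exceptional group, an essential subgroup `E ≤ C`, `E ≰ V 1`, is equal to `C`. -/
theorem E2 [Finite S] (hS : IsPGroup p S) (h : MC S p n W) [hp : Fact p.Prime] (hp3 : 3 ≤ p)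
    (hne : h.Ksub (n - 2) ≠ W 1) (hn : 6 ≤ n) {F : FusionSystem S} (hF : F.IsSaturated p) {E : Subgroup Ω}
    (hE : F.IsEssential p E) (h1 : ¬ E ≤ V W 1) (h2 : E ≤ C h) : E = C h := by
  have h4 := h.four_le
  have hneC := not_le_of_ne h hne
  have hclass : ∀ Q : Subgroup Ω, F.IsEssential p Q → ¬ Q ≤ V W 1 → Q ≤ C h →
      Q = C h ∨ ∃ x, Side h Q x ∧ Q ⊓ V W 1 = V W (n - 3) := by
    intro Q hQ hQ1 hQ2
    obtain ⟨x, hx, hx1⟩ := Set.not_subset.1 hQ1
    have hz2 : V W (n - 2) ≤ Q := by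
      intro v hv
      apply ess_centralizerIn_le hQ
      refine ⟨V_le _ hv, Subgroup.mem_centralizer_iff.2 fun y hy => ?_⟩
      exact (((mem_C h).1 (hQ2 hy)).2 v hv).symm
    have s : Side h Q x := ⟨hQ2, hx, hx1, hz2⟩
    obtain ⟨j, hj2, hjn, hj⟩ := s.exists_inf hp3 hneC
    rcases Nat.lt_or_ge j 3 with h5 | h5
    · left
      have : j = 2 := by omega
      subst this
      exact s.eq_C hneC hj
    · rcases Nat.lt_or_ge (j + 3) n with h6 | h6
      · exact absurd (s.not_small hS hp3 hQ hj h5 (by omega)) (fun h => h)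
      · rcases Nat.lt_or_ge (n - 3) j with h7 | h7
        · have : j = n - 2 := by omega
          subst this
          exact absurd (s.not_cube hS hp3 hF hQ hj (by omega)) (fun h => h)
        · have : j = n - 3 := by omega
          subst this
          exact Or.inr ⟨x, s, hj⟩
  by_contra hcon
  rcases hclass E hE h1 h2 with h5 | ⟨x, s, hj⟩
  · exact hcon h5
  by_cases hC : F.IsEssential p (C h)
  · rcases Nat.lt_or_ge n 7 with h6 | h6
    · have : n = 6 := by omega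
      subst this
      exact s.not_six hS hp3 hne hF hE hj hC
    · exact not_essential_C hS hp3 hneC hC h6
  · refine s.not_four hS hp3 hne hF hE hj hn (fun Q hQ hQ1 => ?_)
    by_cases hQ2 : Q ≤ C h
    · rcases hclass Q hQ hQ1 hQ2 with h5 | ⟨y, sy, hjy⟩
      · rw [h5] at hQ
        exact absurd hQ hC
      · rw [sy.card hjy (by omega)]
        apply Nat.pow_le_pow_right hp.out.pos
        omega
    · exact (card_of_not_le hS h hp3 hQ hQ1 hQ2).trans (Nat.pow_le_pow_right hp.out.pos (by omega))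

end Cfsg.Agent.H793.ExcA
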