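import Cfsg.Prelude.Def_FusionReduction
import Cfsg.Agent.Lib.Involves

/-!
# `p`-sections of Sylow subgroups (helper793)
-/

set_option autoImplicit false

namespace Cfsg.Agent.H793

open Cfsg Cfsg.FusionSystem

/-- The two notions of section. -/
theorem involves_lib_iff {H G : Type*} [Group H] [Group G] :
    Cfsg.Involves H G ↔ Cfsg.Agent.Lib.Involves.Involves G H :=
  Cfsg.Agent.Lib.Involves.involves_iff.symm

/-- A `p`-group involved in a finite group is involved in each group containing a copy of its Sylow subgroup. -/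
theorem involves_of_sylow {p : ℕ} [Fact p.Prime] {L Y X : Type*} [Group L] [Finite L] [Group Y] [Group X]
    (hY : IsPGroup p Y) (h : Cfsg.Agent.Lib.Involves.Involves L Y) (T : Sylow p L)
    (f : (T : Subgroup L) →* X) (hf : Function.Injective f) :
    Cfsg.Agent.Lib.Involves.Involves X Y := by
  obtain ⟨K, g, hg⟩ := h
  have hfinY : Finite Y := Finite.of_surjective g hg
  obtain ⟨P⟩ : Nonempty (Sylow p K) := inferInstance
  -- `g(P) = Y`
  have hP : ((P.mapSurjective hg : Sylow p Y) : Subgroup Y) = ⊤ := by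
    have h1 : IsPGroup p (⊤ : Subgroup Y) := hY.to_subgroup ⊤
    exact ((P.mapSurjective hg).is_maximal' h1 le_top).symm
  have hP2 : (P : Subgroup K).map g = ⊤ := by
    rw [← hP]; rfl
  -- `P` embeds in `T`
  have hPp : IsPGroup p ((P : Subgroup K).map K.subtype) := P.isPGroup'.map K.subtype
  obtain ⟨T', hT'⟩ := hPp.exists_le_sylow
  obtain ⟨c, hc⟩ := MulAction.exists_smul_eq L T' T
  have hcT : ∀ x : (P : Subgroup K), c * ((x : K) : L) * c⁻¹ ∈ (T : Subgroup L) := by
    intro x
    rw [← hc]
    exact Subgroup.smul_mem_pointwise_smul _ (MulAut.conj c) (T' : Subgroup L)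
      (hT' ⟨(x : K), x.2, rfl⟩)
  let e : (P : Subgroup K) →* (T : Subgroup L) :=
    ((MulAut.conj c).toMonoidHom.comp (K.subtype.comp (P : Subgroup K).subtype)).codRestrict
      (T : Subgroup L) hcT
  have he : Function.Injective e := by
    intro a b hab
    have h1 : c * ((a : K) : L) * c⁻¹ = c * ((b : K) : L) * c⁻¹ := congrArg Subtype.val hab
    have h2 : ((a : K) : L) = ((b : K) : L) := mul_left_cancel (mul_right_cancel h1)
    exact Subtype.ext (Subtype.ext h2)
  refine Cfsg.Agent.Lib.Involves.of_injective_of_surjective (f.comp e) (hf.comp he)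
    (g.comp (P : Subgroup K).subtype) ?_
  intro y
  have hy : y ∈ (P : Subgroup K).map g := by rw [hP2]; exact Subgroup.mem_top y
  obtain ⟨x, hx, rfl⟩ := hy
  exact ⟨⟨x, hx⟩, rfl⟩

theorem isSectionFree_of_not_involves {Ω : Type*} [Group Ω] {S : Subgroup Ω} [Finite S] (p : ℕ)
    [Fact p.Prime] (F : Cfsg.FusionSystem S) (H : Type*) [Group H] [Finite H] (Q : Subgroup H)
    (hQ : IsPGroup p Q) (hfree : ¬ Cfsg.Involves (↥Q) (↥S)) : F.IsSectionFree p H := by
  intro U _ _ N _ L _ ι hM hinv
  obtain ⟨hfin, ⟨hinj, -⟩, ⟨T, hT⟩, -⟩ := hM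
  apply hfree
  rw [involves_lib_iff] at hinv ⊢
  have h1 : Cfsg.Agent.Lib.Involves.Involves L Q :=
    Cfsg.Agent.Lib.Involves.trans hinv
      (Cfsg.Agent.Lib.Involves.of_injective Q.subtype Q.subtype_injective)
  -- the embedding of `T = ι(N_S(U))` in `S`
  let e := MonoidHom.ofInjective hinj
  have hTle : (T : Subgroup L) ≤ ι.range := hT.le
  let f : (T : Subgroup L) →* S :=
    ((Subgroup.inclusion (inf_le_left : normalizerIn S U ≤ S)).comp e.symm.toMonoidHom).comp
      (Subgroup.inclusion hTle)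
  refine involves_of_sylow hQ h1 T f ?_
  exact ((Subgroup.inclusion_injective (inf_le_left : normalizerIn S U ≤ S)).comp
    e.symm.injective).comp (Subgroup.inclusion_injective hTle)

end Cfsg.Agent.H793
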