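import Cfsg.Agent.H793.PearlA
import Cfsg.Agent.H797.MaxFinal

/-!
# Essential subgroups of groups of maximal class: pearls, or inside `Γ₁` or `C_S(Z₂(S))` (helper793)

`S` of order `p ^ n`, `4 ≤ n`, of maximal class, `Γ₁ = C_S([S, S] / γ₄(S))`.

* `gam_eq` : `Γ₁ = V (chain S) 1`; `ucs_eq` : `Z₂(S) = chain S (n - 2)`; `mem_cz` : membership in `C_S(Z₂(S))`;
* `card_centralizer` : elements outside both have a centralizer of order at most `p ^ 2` (all primes `p`);
* `caseA` : an essential subgroup with such an element is a pearl;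
* `pearl_or_le` : an essential subgroup is a pearl or is contained in `Γ₁` or in `C_S(Z₂(S))`;
* `gam_eq_cz_two`, `not_le_gam_two` : the prime 2.
-/

set_option autoImplicit false

namespace Cfsg.Agent.H793.PearlB

open Cfsg Cfsg.FusionSystem Cfsg.Agent.H802 Cfsg.Agent.H467.MaxClass
open Cfsg.Agent.H797.MaxOmega
open scoped commutatorElement

variable {Ω : Type*} [Group Ω] {S : Subgroup Ω}

section

variable {p n : ℕ} [hp : Fact p.Prime] [Finite S]

theorem mcS (hn : Nat.card S = p ^ n) (h4 : 4 ≤ n) (hmax : Subgroup.lowerCentralSeries S (n - 2) ≠ ⊥) :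
    MC S p n (chain S) :=
  chain_mc hn (Cfsg.Agent.H787.nilpotencyClass_eq hn h4 hmax) h4

omit hp [Finite S] in
theorem gam_eq {Γ₁ : Subgroup Ω} (hΓ₁ : ∀ x : Ω, x ∈ Γ₁ ↔ x ∈ S ∧
    ∀ y ∈ Subgroup.lowerCentralSeries S 1, x * y * x⁻¹ * y⁻¹ ∈ Subgroup.lowerCentralSeries S 3) :
    Γ₁ = V (chain S) 1 := by
  have key : ∀ (i : ℕ) (y : S), (y : Ω) ∈ Subgroup.lowerCentralSeries S i ↔
      y ∈ (⊤ : Subgroup S).lowerCentralSeries i := by
    intro i y
    rw [← Subgroup.top_subtype_lowerCentralSeries]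
    constructor
    · rintro ⟨z, hz, hzy⟩
      rwa [← Subtype.ext hzy]
    · intro hy
      exact ⟨y, hy, rfl⟩
  ext x
  rw [hΓ₁, mem_V]
  constructor
  · rintro ⟨hx, h1⟩
    refine ⟨hx, ?_⟩
    intro w hw
    have h2 := h1 w ((key 1 w).2 hw)
    have h3 : (⁅w, (⟨x, hx⟩ : S)⁆)⁻¹ ∈ (⊤ : Subgroup S).lowerCentralSeries 3 := by
      rw [← key 3, commutatorElement_inv]
      exact h2
    exact inv_mem_iff.1 h3
  · rintro ⟨hx, h1⟩
    refine ⟨hx, fun y hy => ?_⟩
    have hyS : y ∈ S := by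
      rw [← Subgroup.top_subtype_lowerCentralSeries] at hy
      obtain ⟨z, -, rfl⟩ := hy
      exact z.2
    have h2 := h1 ⟨y, hyS⟩ ((key 1 ⟨y, hyS⟩).1 hy)
    have h3 := inv_mem h2
    rw [commutatorElement_inv, ← key 3] at h3
    exact h3

theorem ucs_eq {X : Type*} [Group X] [Finite X] (hX : Nat.card X = p ^ n)
    (hc : Group.nilpotencyClass X = n - 1) (h4 : 4 ≤ n) :
    Subgroup.upperCentralSeries X 2 = chain X (n - 2) := by
  have h := chain_mc hX hc h4
  symm
  have h1 : chain X (n - 2) ≤ Subgroup.upperCentralSeries X 2 := by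
    intro x hx
    rw [show (2 : ℕ) = 1 + 1 from rfl, Subgroup.mem_upperCentralSeries_succ_iff]
    intro y
    rw [Subgroup.upperCentralSeries_one, Subgroup.mem_center_iff]
    intro z
    have h2 := h.comm_mem (x := z) (h.comm_mem (x := y) hx)
    rw [show n - 2 + 1 + 1 = n by omega, h.bot, Subgroup.mem_bot] at h2
    exact (commutatorElement_eq_one_iff_mul_comm.1 h2).symm
  refine Subgroup.eq_of_le_of_card_ge h1 ?_
  rw [Cfsg.Agent.H787.card_ucs_two hX hc h4, h.card_W 2 (by omega)]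

theorem mem_cz (hn : Nat.card S = p ^ n) (h4 : 4 ≤ n)
    (hmax : Subgroup.lowerCentralSeries S (n - 2) ≠ ⊥) {x : Ω} :
    x ∈ (S ⊓ Subgroup.centralizer (((Subgroup.upperCentralSeries ↥S 2).map S.subtype) : Set Ω)) ↔
      ∃ hx : x ∈ S, (⟨x, hx⟩ : S) ∈ (mcS hn h4 hmax).Ksub (n - 2) := by
  have h := mcS hn h4 hmax
  have hu := ucs_eq hn (Cfsg.Agent.H787.nilpotencyClass_eq hn h4 hmax) h4
  rw [Subgroup.mem_inf, Subgroup.mem_centralizer_iff, hu]
  constructor
  · rintro ⟨hx, h1⟩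
    refine ⟨hx, fun w hw => ?_⟩
    rw [show n - 2 + 2 = n by omega, h.bot, Subgroup.mem_bot, commutatorElement_eq_one_iff_mul_comm]
    exact Subtype.ext (h1 w ⟨w, hw, rfl⟩)
  · rintro ⟨hx, h1⟩
    refine ⟨hx, ?_⟩
    rintro _ ⟨w, hw, rfl⟩
    have h2 := h1 w hw
    rw [show n - 2 + 2 = n by omega, h.bot, Subgroup.mem_bot, commutatorElement_eq_one_iff_mul_comm] at h2
    exact congrArg Subtype.val h2

omit hp [Finite S] in
theorem card_centralizer_le_of_abelian {X : Type*} [Group X] [Finite X] {p : ℕ} (hp : p.Prime)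
    {A : Subgroup X} (hA : ∀ a ∈ A, ∀ b ∈ A, a * b = b * a) (hi : A.index = p)
    (hZ : Nat.card (Subgroup.center X) = p) {x : X} (hx : x ∉ A) :
    Nat.card (Subgroup.centralizer ({x} : Set X)) ≤ p ^ 2 := by
  have hmax := Cfsg.Agent.H793.PearlA.isCoatom_of_index_prime (M := A) (by rw [hi]; exact hp)
  have htop : A ⊔ Subgroup.zpowers x = ⊤ := by
    apply hmax.2
    refine lt_of_le_of_ne le_sup_left (fun h => hx ?_)
    rw [h]
    exact Subgroup.mem_sup_right (Subgroup.mem_zpowers x)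
  have h1 : Subgroup.centralizer ({x} : Set X) ⊓ A ≤ Subgroup.center X := by
    rintro y ⟨hy1, hy2⟩
    have h2 : A ⊔ Subgroup.zpowers x ≤ Subgroup.centralizer ({y} : Set X) := by
      refine sup_le (fun a ha => ?_) ?_
      · exact Subgroup.mem_centralizer_singleton_iff.2 (hA a ha y hy2)
      · rw [Subgroup.zpowers_le]
        exact Subgroup.mem_centralizer_singleton_iff.2 (Subgroup.mem_centralizer_singleton_iff.1 hy1).symm
    rw [htop] at h2
    rw [Subgroup.mem_center_iff]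
    intro z
    exact Subgroup.mem_centralizer_singleton_iff.1 (h2 (Subgroup.mem_top z))
  set D := Subgroup.centralizer ({x} : Set X)
  have e1 : Nat.card D = Nat.card (A.subgroupOf D) * A.relIndex D := by
    rw [Subgroup.relIndex, Subgroup.card_mul_index]
  have e2 : Nat.card (A.subgroupOf D) = Nat.card (D ⊓ A : Subgroup X) := by
    rw [inf_comm, ← Subgroup.subgroupOf_map_subtype]
    exact Nat.card_congr ((A.subgroupOf D).equivMapOfInjective D.subtype
      D.subtype_injective).toEquiv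
  have e3 : Nat.card (D ⊓ A : Subgroup X) ≤ p := by
    rw [← hZ]; exact Subgroup.card_le_of_le h1
  have e4 : A.relIndex D ≤ p := by
    have := Subgroup.relIndex_le_of_le_right (H := A) (K := D) (L := ⊤) le_top
      (by rw [Subgroup.relIndex_top_right, hi]; exact hp.ne_zero)
    rwa [Subgroup.relIndex_top_right, hi] at this
  rw [e1, e2, pow_two]
  exact Nat.mul_le_mul e3 e4

end

/-- For `p = 2` the two-step centralizer is cyclic. -/
theorem isCyclic_twoStep {X : Type*} [Group X] [Finite X] {n : ℕ} (hX : Nat.card X = 2 ^ n)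
    (hc : Group.nilpotencyClass X = n - 1) (h4 : 4 ≤ n) : IsCyclic (chain X 1) := by
  have : Fact (Nat.Prime 2) := ⟨Nat.prime_two⟩
  obtain ⟨C, hC, hCi⟩ :=
    Cfsg.Agent.Transfer.MaximalClass.exists_isCyclic_index_two_of_maxClass n (by omega) X hX hc
  have hCn : C.Normal := Subgroup.normal_of_index_eq_two hCi
  have hDC : commutator X ≤ C := by
    have h1 : IsCyclic (X ⧸ C) := isCyclic_of_prime_card (p := 2) hCi
    have h2 : IsMulCommutative (X ⧸ C) := inferInstance
    exact (Subgroup.Normal.quotient_commutative_iff_commutator_le (N := C)).mp h2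
  have h := chain_mc hX hc h4
  have hle : C ≤ chain X 1 := by
    intro x hx w hw
    have hw' : w ∈ C := by
      apply hDC
      rwa [← Subgroup.top_lowerCentralSeries_one]
    have h2 : IsMulCommutative C := inferInstance
    have h3 : w * x = x * w := congrArg Subtype.val (h2.is_comm.comm (⟨w, hw'⟩ : C) ⟨x, hx⟩)
    rw [commutatorElement_eq_one_iff_mul_comm.2 h3]
    exact one_mem _
  have hind := h.W1_index
  have heq : C = chain X 1 := by
    apply Subgroup.eq_of_le_of_card_ge hle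
    have h5 := C.card_mul_index
    have h6 := (chain X 1).card_mul_index
    rw [hCi] at h5
    rw [hind] at h6
    omega
  rw [← heq]
  exact hC

section

variable {p n : ℕ} [hp : Fact p.Prime] [Finite S]

theorem card_centralizer_chain {X : Type*} [Group X] [Finite X] (hX : Nat.card X = p ^ n)
    (hc : Group.nilpotencyClass X = n - 1) (h4 : 4 ≤ n) {x : X} (h1 : x ∉ chain X 1)
    (h2 : x ∉ (chain_mc hX hc h4).Ksub (n - 2)) :
    Nat.card (Subgroup.centralizer ({x} : Set X)) ≤ p ^ 2 := by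
  have h := chain_mc hX hc h4
  rcases Nat.lt_or_ge p 3 with h3 | h3
  · have hp2 : p = 2 := by have := hp.out.two_le; omega
    subst hp2
    have hcyc := isCyclic_twoStep hX hc h4
    have h5 : IsMulCommutative (chain X 1) := inferInstance
    refine card_centralizer_le_of_abelian hp.out (fun a ha b hb => ?_) h.W1_index
      (Cfsg.Agent.H787.card_ucs_one hX hc (by omega)) h1
    exact congrArg Subtype.val (h5.is_comm.comm (⟨a, ha⟩ : chain X 1) ⟨b, hb⟩)
  · exact (h.card_centralizer_of_notMem h1 (h.notMem_Ksub h3 h1 h2)).le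

/-- **Case A**, with the hypotheses of S5267. -/
theorem caseA (hS : IsPGroup p S) (hn : Nat.card S = p ^ n) (h4 : 4 ≤ n)
    (hmax : Subgroup.lowerCentralSeries S (n - 2) ≠ ⊥) {F : FusionSystem S} {Γ₁ : Subgroup Ω}
    (hΓ₁ : ∀ x : Ω, x ∈ Γ₁ ↔ x ∈ S ∧
      ∀ y ∈ Subgroup.lowerCentralSeries S 1, x * y * x⁻¹ * y⁻¹ ∈ Subgroup.lowerCentralSeries S 3)
    {E : Subgroup Ω} (hE : F.IsEssential p E) {x : Ω} (hxE : x ∈ E) (hx1 : x ∉ Γ₁)
    (hx2 : x ∉ (S ⊓ Subgroup.centralizer (((Subgroup.upperCentralSeries ↥S 2).map S.subtype) : Set Ω))) :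
    (Nat.card E = p ^ 2 ∧ Cfsg.IsElementaryAbelian p E) ∨
      (Nat.card E = p ^ 3 ∧ Cfsg.IsExtraspecial p E ∧ (p ≠ 2 → Monoid.exponent E = p) ∧
        (p = 2 → Nonempty (E ≃* QuaternionGroup 2))) := by
  have hle := Cfsg.Agent.H766.ess_le hE
  have hxS : x ∈ S := hle hxE
  rw [gam_eq hΓ₁] at hx1
  rw [mem_cz hn h4 hmax] at hx2
  have h1 := card_centralizer_chain hn (Cfsg.Agent.H787.nilpotencyClass_eq hn h4 hmax) h4 (x := ⟨x, hxS⟩)
    (fun h => hx1 ⟨_, h, rfl⟩) (fun h => hx2 ⟨hxS, h⟩)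
  refine Cfsg.Agent.H793.PearlA.pearl_of_centralizer hS hE (x := ⟨x, hxE⟩) (le_trans ?_ h1)
  let f : Subgroup.centralizer ({(⟨x, hxE⟩ : E)} : Set E) →
      Subgroup.centralizer ({(⟨x, hxS⟩ : S)} : Set S) := fun y => ⟨⟨(y : E), hle (y : E).2⟩, by
    rw [Subgroup.mem_centralizer_singleton_iff]
    have h2 := Subgroup.mem_centralizer_singleton_iff.1 y.2
    exact Subtype.ext (congrArg (fun z : E => (z : Ω)) h2)⟩
  refine Nat.card_le_card_of_injective f ?_
  intro y z hyz
  apply Subtype.ext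
  apply Subtype.ext
  exact congrArg (fun u : Subgroup.centralizer ({(⟨x, hxS⟩ : S)} : Set S) => ((u : S) : Ω)) hyz

/-- An essential subgroup is a pearl, or is contained in `Γ₁` or in `C_S(Z₂(S))`. -/
theorem pearl_or_le (hS : IsPGroup p S) (hn : Nat.card S = p ^ n) (h4 : 4 ≤ n)
    (hmax : Subgroup.lowerCentralSeries S (n - 2) ≠ ⊥) {F : FusionSystem S} {Γ₁ : Subgroup Ω}
    (hΓ₁ : ∀ x : Ω, x ∈ Γ₁ ↔ x ∈ S ∧
      ∀ y ∈ Subgroup.lowerCentralSeries S 1, x * y * x⁻¹ * y⁻¹ ∈ Subgroup.lowerCentralSeries S 3)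
    {E : Subgroup Ω} (hE : F.IsEssential p E) :
    ((Nat.card E = p ^ 2 ∧ Cfsg.IsElementaryAbelian p E) ∨
      (Nat.card E = p ^ 3 ∧ Cfsg.IsExtraspecial p E ∧ (p ≠ 2 → Monoid.exponent E = p) ∧
        (p = 2 → Nonempty (E ≃* QuaternionGroup 2)))) ∨ E ≤ Γ₁ ∨
    E ≤ (S ⊓ Subgroup.centralizer (((Subgroup.upperCentralSeries ↥S 2).map S.subtype) : Set Ω)) := by
  by_cases hcase : ∃ x ∈ E, x ∉ Γ₁ ∧
      x ∉ (S ⊓ Subgroup.centralizer (((Subgroup.upperCentralSeries ↥S 2).map S.subtype) : Set Ω))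
  · obtain ⟨x, hxE, hx1, hx2⟩ := hcase
    exact Or.inl (caseA hS hn h4 hmax hΓ₁ hE hxE hx1 hx2)
  · right
    by_contra hno
    push Not at hno
    obtain ⟨h1, h2⟩ := hno
    obtain ⟨a, ha, ha1⟩ := Set.not_subset.1 h1
    obtain ⟨b, hb, hb1⟩ := Set.not_subset.1 h2
    push Not at hcase
    have ha2 := hcase a ha ha1
    have hb2 : b ∈ Γ₁ := by
      by_contra hb2
      exact hb1 (hcase b hb hb2)
    have hab : a * b ∈ E := E.mul_mem ha hb
    by_cases h3 : a * b ∈ Γ₁
    · apply ha1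
      have := Γ₁.mul_mem h3 (Γ₁.inv_mem hb2)
      rwa [mul_inv_cancel_right] at this
    · have h4' := hcase _ hab h3
      apply hb1
      have := Subgroup.mul_mem _ (Subgroup.inv_mem _ ha2) h4'
      rwa [inv_mul_cancel_left] at this

end

section two

variable {n : ℕ} [Finite S]

/-- For `p = 2`, `Γ₁ = C_S(Z₂(S))`. -/
theorem gam_eq_cz_two (hn : Nat.card S = 2 ^ n) (h4 : 4 ≤ n)
    (hmax : Subgroup.lowerCentralSeries S (n - 2) ≠ ⊥) {Γ₁ : Subgroup Ω}
    (hΓ₁ : ∀ x : Ω, x ∈ Γ₁ ↔ x ∈ S ∧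
      ∀ y ∈ Subgroup.lowerCentralSeries S 1, x * y * x⁻¹ * y⁻¹ ∈ Subgroup.lowerCentralSeries S 3) :
    Γ₁ = (S ⊓ Subgroup.centralizer (((Subgroup.upperCentralSeries ↥S 2).map S.subtype) : Set Ω)) := by
  have : Fact (Nat.Prime 2) := ⟨Nat.prime_two⟩
  have h := mcS hn h4 hmax
  have hc := Cfsg.Agent.H787.nilpotencyClass_eq hn h4 hmax
  have hK : h.Ksub (n - 2) = chain S 1 := by
    apply h.eq_W1
    · intro x hx w hw
      have hcyc := isCyclic_twoStep hn hc h4
      have h5 : IsMulCommutative (chain S 1) := inferInstance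
      have hw' : w ∈ chain S 1 := h.antitone (by omega) hw
      have h3 : w * x = x * w := congrArg Subtype.val (h5.is_comm.comm (⟨w, hw'⟩ : chain S 1) ⟨x, hx⟩)
      rw [commutatorElement_eq_one_iff_mul_comm.2 h3]
      exact one_mem _
    · exact h.Ksub_ne_top' (by omega) (by omega)
  ext x
  rw [gam_eq hΓ₁, mem_V, mem_cz hn h4 hmax, hK]

theorem not_le_gam_two (hS : IsPGroup 2 S) (hn : Nat.card S = 2 ^ n) (h4 : 4 ≤ n)
    (hmax : Subgroup.lowerCentralSeries S (n - 2) ≠ ⊥) {F : FusionSystem S} {Γ₁ : Subgroup Ω}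
    (hΓ₁ : ∀ x : Ω, x ∈ Γ₁ ↔ x ∈ S ∧
      ∀ y ∈ Subgroup.lowerCentralSeries S 1, x * y * x⁻¹ * y⁻¹ ∈ Subgroup.lowerCentralSeries S 3)
    {E : Subgroup Ω} (hE : F.IsEssential 2 E) : ¬ E ≤ Γ₁ := by
  intro hle
  have : Fact (Nat.Prime 2) := ⟨Nat.prime_two⟩
  have hES := Cfsg.Agent.H766.ess_le hE
  have hfE : Finite E := finite_of_le hES
  have hc := Cfsg.Agent.H787.nilpotencyClass_eq hn h4 hmax
  have hcyc := isCyclic_twoStep hn hc h4
  have hEc : IsCyclic E := by
    rw [gam_eq hΓ₁] at hle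
    let f : E →* chain S 1 :=
      { toFun := fun x => ⟨⟨(x : Ω), hES x.2⟩, (mem_V.1 (hle x.2)).2⟩
        map_one' := rfl
        map_mul' := fun _ _ => rfl }
    refine isCyclic_of_injective f ?_
    intro y z hyz
    apply Subtype.ext
    exact congrArg (fun u : chain S 1 => ((u : S) : Ω)) hyz
  obtain ⟨h1, h2⟩ := Cfsg.Agent.H766.ess_frattini_index hS hE
  -- the Frattini quotient of a cyclic group is cyclic of order at most 2
  have hEp : IsPGroup 2 E := hS.to_le hES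
  have h3 : (frattini E).index ≤ 2 := by
    have hcq : IsCyclic (E ⧸ frattini E) :=
      isCyclic_of_surjective (QuotientGroup.mk' (frattini E)) (QuotientGroup.mk'_surjective _)
    obtain ⟨g, hg⟩ := IsCyclic.exists_generator (α := E ⧸ frattini E)
    have h5 : orderOf g ∣ 2 := by
      rw [orderOf_dvd_iff_pow_eq_one]
      obtain ⟨y, rfl⟩ := QuotientGroup.mk'_surjective _ g
      rw [← map_pow, QuotientGroup.mk'_apply, QuotientGroup.eq_one_iff]
      exact Cfsg.Agent.Lib.FrattiniPGroup.pow_mem_frattini hEp y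
    have h6 : Nat.card (E ⧸ frattini E) = orderOf g := (orderOf_eq_card_of_forall_mem_zpowers hg).symm
    have h7 : (frattini E).index = orderOf g := h6
    rw [h7]
    exact Nat.le_of_dvd (by norm_num) h5
  have h8 : (frattini E).index ≠ 0 := Subgroup.index_ne_zero_of_finite
  interval_cases h9 : (frattini E).index
  · exact h8 rfl
  · exact h1 rfl
  · exact h2 rfl

end two

end Cfsg.Agent.H793.PearlB
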