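import Cfsg.Agent.H793.Hyp
import Cfsg.Agent.H802.FusCentric

/-!
# Maps of a saturated system that are the identity on a subgroup `A` (helper793)

`A` receptive in `F`, `A ≤ U ≤ N_S(A)`, `U` conjugate to a fully normalized centric `Q`, the group of automorphisms of
`U` in `F` trivial on `A` a `p`-group. If a system `E` over `S` contains all maps of `F` with source larger than `U`
then it contains all the maps of `F` with source `U` that are the identity on `A`.
-/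

set_option autoImplicit false

namespace Cfsg.Agent.H793

open Cfsg Cfsg.FusionSystem Cfsg.Agent.H802

variable {Ω : Type*} [Group Ω] {S : Subgroup Ω}

theorem card_centralizerIn_le_of_isCentric [Finite S] {F : FusionSystem S} {P Q : Subgroup Ω}
    (hP : F.IsCentric P) (h : F.IsConj P Q) :
    Nat.card (centralizerIn S P) ≤ Nat.card (centralizerIn S Q) := by
  have hCP : centralizerIn S P ≤ P := hP.2 P (isConj_refl F hP.1)
  obtain ⟨φ, hφ, hφQ⟩ := h
  have : Finite (centralizerIn S Q) := finite_of_le inf_le_left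
  exact card_le_of_maps (F.injective_of_mem hφ) hCP
    (fun x hx => apply_mem_centralizerIn hφ le_rfl hφQ (fun _ _ => rfl) ⟨x, hCP hx⟩ hx.2)

theorem isFullyCentralized_of_isCentric [Finite S] {F : FusionSystem S} {P : Subgroup Ω}
    (hP : F.IsCentric P) : F.IsFullyCentralized P :=
  ⟨hP.1, fun _ hQ => card_centralizerIn_le_of_isCentric (isCentric_of_isConj hP hQ) (isConj_symm hQ)⟩

/-- `κ` is a map of `F` from `V` onto `W` which is the identity on `V ∩ A`. -/
def FixHom (F : FusionSystem S) (A V W : Subgroup Ω) (κ : V →* Ω) : Prop :=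
  κ ∈ F.Hom V ∧ κ.range = W ∧ ∀ (x : Ω) (hx : x ∈ V), x ∈ A → κ ⟨x, hx⟩ = x

theorem FixHom.le_range {F : FusionSystem S} {A V W : Subgroup Ω} {κ : V →* Ω} (hAV : A ≤ V)
    (h : FixHom F A V W κ) : A ≤ W := by
  intro a ha
  rw [← h.2.1]
  exact ⟨⟨a, hAV ha⟩, h.2.2 a (hAV ha) ha⟩

theorem FixHom.refl {F : FusionSystem S} {A V : Subgroup Ω} (hV : V ≤ S) :
    FixHom F A V V V.subtype :=
  ⟨subtype_mem F hV, Subgroup.range_subtype V, fun _ _ _ => rfl⟩

theorem FixHom.symm {F : FusionSystem S} {A V W : Subgroup Ω} {κ : V →* Ω} (hAV : A ≤ V)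
    (h : FixHom F A V W κ) : ∃ κ' : W →* Ω, FixHom F A W V κ' ∧
      (∀ (x : V) (hx : κ x ∈ W), κ' ⟨κ x, hx⟩ = x) ∧ (∀ (y : W) (hy : κ' y ∈ V), κ ⟨κ' y, hy⟩ = y) := by
  obtain ⟨κ', hκ', hr, h1, h2⟩ := exists_inv h.1 h.2.1
  refine ⟨κ', ⟨hκ', hr, fun x hx hxA => ?_⟩, h1, h2⟩
  have h3 := h.2.2 x (hAV hxA) hxA
  have h4 := h1 ⟨x, hAV hxA⟩ (by rw [h3]; exact hx)
  have h5 : (⟨κ ⟨x, hAV hxA⟩, by rw [h3]; exact hx⟩ : W) = ⟨x, hx⟩ := Subtype.ext h3
  rw [h5] at h4
  exact h4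

theorem FixHom.trans {F : FusionSystem S} {A U V W : Subgroup Ω} {κ : U →* Ω} {μ : V →* Ω}
    (h : FixHom F A U V κ) (h' : FixHom F A V W μ) :
    ∃ ν : U →* Ω, FixHom F A U W ν ∧ ∀ (x : U) (hx : κ x ∈ V), ν x = μ ⟨κ x, hx⟩ := by
  have hm : ∀ x : U, κ x ∈ V := fun x => by rw [← h.2.1]; exact ⟨x, rfl⟩
  obtain ⟨ν, hν, hνe⟩ := exists_comp h.1 h'.1 hm
  refine ⟨ν, ⟨hν, ?_, fun x hx hxA => ?_⟩, fun x hx => hνe x⟩
  · ext z
    constructor
    · rintro ⟨x, rfl⟩
      rw [hνe x, ← h'.2.1]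
      exact ⟨_, rfl⟩
    · intro hz
      rw [← h'.2.1] at hz
      obtain ⟨⟨y, hy⟩, rfl⟩ := hz
      have hy' := hy
      rw [← h.2.1] at hy'
      obtain ⟨x, rfl⟩ := hy'
      exact ⟨x, hνe x⟩
  · rw [hνe]
    have h3 : (⟨κ ⟨x, hx⟩, hm ⟨x, hx⟩⟩ : V) = ⟨x, by rw [← h.2.2 x hx hxA]; exact hm _⟩ :=
      Subtype.ext (h.2.2 x hx hxA)
    rw [h3]
    exact h'.2.2 _ _ hxA

theorem FixHom.le_normalizer {F : FusionSystem S} {A V W : Subgroup Ω} {κ : V →* Ω} (hAV : A ≤ V)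
    (hVN : V ≤ Subgroup.normalizer (A : Set Ω)) (h : FixHom F A V W κ) :
    W ≤ Subgroup.normalizer (A : Set Ω) := by
  intro w hw
  rw [← h.2.1] at hw
  obtain ⟨x, rfl⟩ := hw
  exact (apply_mem_normalizerIn (φ := A.subtype) h.1 hAV hVN (Subgroup.range_subtype A)
    (fun x hx => h.2.2 x (hAV hx) hx) x).2

/-- Conjugation by `κ x` on `A` is conjugation by `x`. -/
theorem FixHom.mem_centralizer {F : FusionSystem S} {A V W : Subgroup Ω} {κ : V →* Ω} (hAV : A ≤ V)
    (hVN : V ≤ Subgroup.normalizer (A : Set Ω)) (h : FixHom F A V W κ) (x : V) :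
    (x : Ω)⁻¹ * κ x ∈ centralizerIn S A := by
  have hVS : V ≤ S := hom_le h.1
  refine ⟨S.mul_mem (S.inv_mem (hVS x.2)) (hom_apply_mem h.1 x), ?_⟩
  refine Subgroup.mem_centralizer_iff.2 fun a ha => ?_
  have h1 : (x : Ω) * a * (x : Ω)⁻¹ ∈ A := (Subgroup.mem_normalizer_iff.1 (hVN x.2) a).1 ha
  have h2 := h.2.2 _ (hAV h1) h1
  have h3 : (⟨(x : Ω) * a * (x : Ω)⁻¹, hAV h1⟩ : V) = x * ⟨a, hAV ha⟩ * x⁻¹ := rfl
  rw [h3, map_mul, map_mul, map_inv, h.2.2 a (hAV ha) ha] at h2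
  -- `κ x * a * (κ x)⁻¹ = x * a * x⁻¹`
  calc a * ((x : Ω)⁻¹ * κ x) = (x : Ω)⁻¹ * ((x : Ω) * a * (x : Ω)⁻¹) * κ x := by group
    _ = (x : Ω)⁻¹ * (κ x * a * (κ x)⁻¹) * κ x := by rw [h2]
    _ = (x : Ω)⁻¹ * κ x * a := by group

/-- First claim: maps onto a subgroup `W` all of whose automorphisms trivial on `A` are induced by `C_S(A)`. -/
theorem fix_mem_of_le {p : ℕ} [Fact p.Prime] [Finite S] (hS : IsPGroup p S) {F E : FusionSystem S}
    (hF : F.IsSaturated p) {A V W : Subgroup Ω} (hAV : A ≤ V)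
    (hVN : V ≤ Subgroup.normalizer (A : Set Ω)) (hWc : F.IsCentric W)
    (hbig : ∀ R : Subgroup Ω, Nat.card W < Nat.card R → F.Hom R ⊆ E.Hom R)
    (hJ : ∀ b ∈ F.autGroup W, (∀ x : W, (x : Ω) ∈ A → b x = x) →
      b ∈ autInducedBy (centralizerIn S A) W) {κ : V →* Ω} (hκ : FixHom F A V W κ) :
    κ ∈ E.Hom V := by
  have hVS : V ≤ S := hom_le hκ.1
  have hfV : Finite V := finite_of_le hVS
  have hcard : Nat.card V = Nat.card W := isConj_card_eq ⟨κ, hκ.1, hκ.2.1⟩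
  have hrec : F.IsReceptive W :=
    isReceptive_of_isFullyCentralized hS hF (isFullyCentralized_of_isCentric hWc)
  obtain ⟨κ', hκ', hκe⟩ := hrec.2 V κ hκ.1 hκ.2.1
  have hVext : V ≤ extender S V κ := le_extender hVS (hom_apply_mem hκ.1)
  have hN : ∀ c ∈ centralizerIn S A, c ∈ Subgroup.normalizer (V : Set Ω) → c ∈ extender S V κ := by
    intro c hc hcN
    rw [mem_extender_iff]
    refine ⟨hc.1, hcN, ?_⟩
    obtain ⟨α, hα⟩ := exists_conjAut hcN
    have hαF : α ∈ F.autGroup V :=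
      autInducedBy_le_autGroup F hVS ((mem_autInducedBy_iff S V α).2 ⟨c, hc.1, hα⟩)
    have hb := hJ _ (autHom hκ.1 hκ.2.1 ⟨α, hαF⟩).2 ?_
    · obtain ⟨d, hd, hde⟩ := (mem_autInducedBy_iff _ _ _).1 hb
      refine ⟨d, hd.1, fun x hx => ?_⟩
      have hκx : κ x ∈ W := by rw [← hκ.2.1]; exact ⟨x, rfl⟩
      have h1 := hde ⟨κ x, hκx⟩
      rw [autHom_apply hκ.1 hκ.2.1 ⟨α, hαF⟩ x hκx] at h1
      rw [← h1]
      congr 1
      exact Subtype.ext (hα x).symm
    · intro x hxA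
      apply Subtype.ext
      have h2 := hκ.2.2 x (hAV hxA) hxA
      have h3 : x = ⟨κ ⟨x, hAV hxA⟩, by rw [h2]; exact x.2⟩ := Subtype.ext h2.symm
      have h4 := autHom_apply hκ.1 hκ.2.1 ⟨α, hαF⟩ ⟨x, hAV hxA⟩ (by rw [h2]; exact x.2)
      rw [← h3] at h4
      rw [h4]
      have h5 : α ⟨(x : Ω), hAV hxA⟩ = ⟨(x : Ω), hAV hxA⟩ := by
        apply Subtype.ext
        rw [hα]
        have := Subgroup.mem_centralizer_iff.1 hc.2 x hxA
        show c * (x : Ω) * c⁻¹ = x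
        rw [← this]; group
      show κ (α ⟨(x : Ω), hAV hxA⟩) = x
      rw [h5, h2]
  by_cases hcase : ∃ c ∈ centralizerIn S A, c ∈ Subgroup.normalizer (V : Set Ω) ∧ c ∉ V
  · -- the extension is defined on a larger subgroup
    obtain ⟨c, hc, hcN, hcV⟩ := hcase
    have hfe : Finite (extender S V κ) := finite_of_le (extender_le S V κ)
    have hlt : Nat.card V < Nat.card (extender S V κ) := by
      refine lt_of_le_of_ne (Subgroup.card_le_of_le hVext) fun heq => ?_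
      have h1 := Subgroup.eq_of_le_of_card_ge hVext heq.ge
      apply hcV
      rw [h1]
      exact hN c hc hcN
    rw [hcard] at hlt
    have h1 := hbig _ hlt hκ'
    exact mem_of_agree h1 hVext (fun x hx => (hκe x hx (hVext hx)).symm)
  · push Not at hcase
    -- `C_S(A) ≤ V`
    have hC : centralizerIn S A ≤ V := by
      by_contra hCV
      have hVC : V ≤ Subgroup.normalizer ((centralizerIn S A : Subgroup Ω) : Set Ω) := by
        rw [Subgroup.le_normalizer_iff]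
        intro v hv c hc
        refine ⟨S.mul_mem (S.mul_mem (hVS hv) hc.1) (S.inv_mem (hVS hv)), ?_⟩
        refine Subgroup.mem_centralizer_iff.2 fun a ha => ?_
        have h1 : v⁻¹ * a * v ∈ A := by
          have := (Subgroup.mem_normalizer_iff.1 (Subgroup.inv_mem _ (hVN hv)) a).1 ha
          simpa using this
        have h2 := Subgroup.mem_centralizer_iff.1 hc.2 _ h1
        calc a * (v * c * v⁻¹) = v * (v⁻¹ * a * v * c) * v⁻¹ := by group
          _ = v * (c * (v⁻¹ * a * v)) * v⁻¹ := by rw [h2]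
          _ = v * c * v⁻¹ * a := by group
      have hne : V ≠ V ⊔ centralizerIn S A := by
        intro h
        apply hCV
        rw [h]
        exact le_sup_right
      have hlt := lt_inf_normalizer hS (le_sup_left : V ≤ V ⊔ centralizerIn S A)
        (sup_le hVS inf_le_left) hne
      obtain ⟨m, hm, hmV⟩ := SetLike.exists_of_lt hlt
      obtain ⟨v, hv, c, hc, rfl⟩ := (Cfsg.Agent.H759.mem_sup_of_normalizes hVC).1 hm.1
      have hcN : c ∈ Subgroup.normalizer (V : Set Ω) := by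
        have h1 : v⁻¹ * (v * c) ∈ Subgroup.normalizer (V : Set Ω) :=
          Subgroup.mul_mem _ (Subgroup.inv_mem _ (Subgroup.le_normalizer hv)) hm.2
        rwa [inv_mul_cancel_left] at h1
      exact hmV (V.mul_mem hv (hcase c hc hcN))
    -- `κ` maps `V` into `V`
    have hmaps : ∀ x : V, κ x ∈ V := by
      intro x
      have h1 := hC (hκ.mem_centralizer hAV hVN x)
      have h2 := V.mul_mem x.2 h1
      rwa [mul_inv_cancel_left] at h2
    have hVW : V = W := by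
      rw [← hκ.2.1]
      exact (range_eq_of_mapsTo hκ.1 hmaps).symm
    subst hVW
    obtain ⟨b, hb, hbe⟩ := exists_aut hκ.1 hκ.2.1
    have h1 := hJ b hb (fun x hx => Subtype.ext ((hbe x).trans (hκ.2.2 x x.2 hx)))
    obtain ⟨d, hd, hde⟩ := (mem_autInducedBy_iff _ _ _).1 h1
    exact mem_of_apply_eq (E.conj_mem hVS hd.1) (fun x => ((hbe x).symm.trans (hde x)))

end Cfsg.Agent.H793
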