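import Cfsg.Agent.H753.NormModel
import Cfsg.Agent.H771.ModelUnique
import Cfsg.Agent.H792.CenterSplit
import Cfsg.Agent.H802.FusKSat
import Cfsg.Agent.H802.FusAlp
import Cfsg.Agent.PLocal.ThompsonJA
import Cfsg.Agent.H793.FixMax

/-!
# Elements of `Z(S)` fixed by `Aut_F(J(S))` are central in `F` (given the local group theorem)

`mem_center_of_local` : `x ∈ Z(S)` is fixed by `Aut_F(J(S))`, and a local statement on finite groups `L` holds
(`hloc`); then `x ∈ Z(F)`.
-/

set_option autoImplicit false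

namespace Cfsg.Agent.H793

open Cfsg Cfsg.FusionSystem Cfsg.Agent.H752

universe u

section general

variable {Ω : Type*} [Group Ω] {S : Subgroup Ω} {F : FusionSystem S}

/-- `x` is fixed by all automorphisms of `R` in the system (if it lies in `R`). -/
def Good (F : FusionSystem S) (x : Ω) (R : Subgroup Ω) : Prop :=
  ∀ f : Ω → Ω, Mp F R f → (∀ y ∈ R, f y ∈ R) → x ∈ R → f x = x

theorem mp_sup_mem {A B R : Subgroup Ω} {g : Ω → Ω} (h : Mp F (A ⊔ B) g)
    (hA : ∀ y ∈ A, g y ∈ R) (hB : ∀ y ∈ B, g y ∈ R) : ∀ y ∈ A ⊔ B, g y ∈ R := by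
  obtain ⟨φ, hφ, h1⟩ := h
  have h2 : A ⊔ B ≤ (R.comap φ).map (A ⊔ B).subtype := by
    refine sup_le ?_ ?_
    · intro y hy
      refine ⟨⟨y, (le_sup_left : A ≤ A ⊔ B) hy⟩, ?_, rfl⟩
      show φ _ ∈ R
      rw [h1]
      exact hA y hy
    · intro y hy
      refine ⟨⟨y, (le_sup_right : B ≤ A ⊔ B) hy⟩, ?_, rfl⟩
      show φ _ ∈ R
      rw [h1]
      exact hB y hy
  intro y hy
  obtain ⟨z, hz, hzy⟩ := h2 hy
  have h3 : φ z ∈ R := hz
  rw [h1 z z.2] at h3
  have h4 : (z : Ω) = y := hzy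
  rwa [h4] at h3

theorem mp_zpowers {P : Subgroup Ω} {g : Ω → Ω} {x : Ω} (h : Mp F P g) (hx : x ∈ P)
    (hg : g x = x) : ∀ y ∈ Subgroup.zpowers x, g y = y := by
  obtain ⟨φ, hφ, h1⟩ := h
  rintro _ ⟨n, rfl⟩
  have h2 : x ^ n ∈ P := P.zpow_mem hx n
  show g (x ^ n) = x ^ n
  rw [← h1 _ h2]
  have h3 : (⟨x ^ n, h2⟩ : P) = ⟨x, hx⟩ ^ n := rfl
  rw [h3, map_zpow, h1, hg]

/-- Maps on large subgroups extend to a map fixing `x`, if the automorphisms of large fully normalized subgroups
fix `x`. -/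
theorem ext_of_good {p : ℕ} [Fact p.Prime] [Finite S] (hS : IsPGroup p S) (hF : F.IsSaturated p)
    {x : Ω} (hx : x ∈ S ⊓ Subgroup.centralizer (S : Set Ω)) (t : ℕ)
    (hgood : ∀ R : Subgroup Ω, F.IsFullyNormalized R → t < Nat.card (normalizerIn S R) →
      Good F x R) (hgS : Good F x S) :
    ∀ (P : Subgroup Ω) (f : Ω → Ω), Mp F P f → t ≤ Nat.card P →
      ∃ g : Ω → Ω, Mp F (P ⊔ Subgroup.zpowers x) g ∧ (∀ y ∈ P, g y = f y) ∧ g x = x := by
  have hxS : x ∈ S := hx.1
  have hzS : Subgroup.zpowers x ≤ S := by rw [Subgroup.zpowers_le]; exact hxS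
  have hxz : ∀ P : Subgroup Ω, x ∈ P ⊔ Subgroup.zpowers x := fun P =>
    (le_sup_right : _ ≤ P ⊔ Subgroup.zpowers x) (Subgroup.mem_zpowers x)
  refine mp_induction F hS hF (fun P f => t ≤ Nat.card P →
      ∃ g : Ω → Ω, Mp F (P ⊔ Subgroup.zpowers x) g ∧ (∀ y ∈ P, g y = f y) ∧ g x = x)
    ?_ ?_ ?_ ?_ ?_
  · intro P f g _ h he ht
    obtain ⟨k, hk, h1, h2⟩ := h ht
    exact ⟨k, hk, fun y hy => (h1 y hy).trans (he y hy).symm, h2⟩
  · intro P R f hf h hRP ht
    have hfin : Finite P := H802.finite_of_le hf.le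
    obtain ⟨k, hk, h1, h2⟩ := h (ht.trans (Subgroup.card_le_of_le hRP))
    exact ⟨k, hk.res (sup_le_sup_right hRP _), fun y hy => h1 y (hRP hy), h2⟩
  · intro P Q f g hf hg h h' hPQ ht
    have hfin : Finite Q := H802.finite_of_le hg.le
    obtain ⟨T, hT, hTS, hTc⟩ := hf.exists_image le_rfl
    have hTQ : T ≤ Q := fun y hy => by
      obtain ⟨z, hz, rfl⟩ := (hT y).1 hy
      exact hPQ z hz
    have hc : Nat.card P ≤ Nat.card Q := hTc ▸ Subgroup.card_le_of_le hTQ
    obtain ⟨k, hk, h1, h2⟩ := h ht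
    obtain ⟨k', hk', h1', h2'⟩ := h' (ht.trans hc)
    refine ⟨fun y => k' (k y), hk.comp hk' (mp_sup_mem hk ?_ ?_), ?_, ?_⟩
    · intro y hy
      rw [h1 y hy]
      exact (le_sup_left : Q ≤ _) (hPQ y hy)
    · intro y hy
      rw [mp_zpowers hk (hxz P) h2 y hy]
      exact (le_sup_right : _ ≤ Q ⊔ Subgroup.zpowers x) hy
    · intro y hy
      show k' (k y) = g (f y)
      rw [h1 y hy, h1' _ (hPQ y hy)]
    · show k' (k x) = x
      rw [h2, h2']
  · intro P R f g hf h hg hfg ht
    have hfin : Finite P := H802.finite_of_le hf.le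
    obtain ⟨T, hT, hTS, hTc⟩ := hf.exists_image le_rfl
    have hfinT : Finite T := H802.finite_of_le hTS
    have hRT : R ≤ T := fun y hy => by
      obtain ⟨z, hz, h1, -⟩ := hfg y hy
      exact (hT y).2 ⟨z, hz, h1⟩
    have hc : Nat.card R ≤ Nat.card P := hTc ▸ Subgroup.card_le_of_le hRT
    obtain ⟨k, hk, h1, h2⟩ := h (ht.trans hc)
    obtain ⟨T', hT', -, -⟩ := hk.exists_image le_rfl
    obtain ⟨k', hk', h3, -⟩ := hk.exists_symm le_rfl hT'
    have hle : R ⊔ Subgroup.zpowers x ≤ T' := by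
      refine sup_le ?_ ?_
      · intro y hy
        obtain ⟨z, hz, h4, -⟩ := hfg y hy
        exact (hT' y).2 ⟨z, (le_sup_left : P ≤ _) hz, by rw [h1 z hz, h4]⟩
      · intro y hy
        exact (hT' y).2 ⟨y, (le_sup_right : _ ≤ P ⊔ Subgroup.zpowers x) hy,
          mp_zpowers hk (hxz P) h2 y hy⟩
    refine ⟨k', hk'.res hle, ?_, ?_⟩
    · intro y hy
      obtain ⟨z, hz, h4, h5⟩ := hfg y hy
      have h6 := h3 z ((le_sup_left : P ≤ _) hz)
      rw [h1 z hz, h4] at h6
      rw [h6, h5]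
    · have h6 := h3 x (hxz P)
      rwa [h2] at h6
  · intro Q hQa hQr hbig α hα f hf ht
    have hQS : Q ≤ S := hQa.1
    have hfin : Finite Q := H802.finite_of_le hQS
    have hfm : Mp F Q f := mp_of_autGroup hQS hα hf
    have hfQ : ∀ y ∈ Q, f y ∈ Q := fun y hy => by rw [hf y hy]; exact (α _).2
    by_cases hxQ : x ∈ Q
    · have hgoodQ : Good F x Q := by
        by_cases hQeq : Q = S
        · rw [hQeq]; exact hgS
        · refine hgood Q (H802.isFullyNormalized_of_automized_receptive hS hQa hQr) ?_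
          exact lt_of_le_of_lt ht (H802.card_lt_card_normalizerIn hS hQS hQeq)
      have hQz : Q ⊔ Subgroup.zpowers x = Q := by
        rw [sup_eq_left, Subgroup.zpowers_le]; exact hxQ
      exact ⟨f, by rw [hQz]; exact hfm, fun y _ => rfl, hgoodQ f hfm hfQ hxQ⟩
    · -- extend to the extender
      have hαm := (H802.mem_autGroup_iff F hQS α).1 hα
      have hr : (Q.subtype.comp α.toMonoidHom).range = Q := by
        ext y
        constructor
        · rintro ⟨z, rfl⟩
          exact (α z).2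
        · intro hy
          refine ⟨α.symm ⟨y, hy⟩, ?_⟩
          show ((α (α.symm ⟨y, hy⟩) : Q) : Ω) = y
          rw [MulEquiv.apply_symm_apply]
      obtain ⟨ψ, hψ, hψe⟩ := hQr.2 Q _ hαm hr
      have hQe : Q ≤ extender S Q (Q.subtype.comp α.toMonoidHom) :=
        H802.le_extender hQS (fun y => hQS (α y).2)
      have hle : Q ⊔ Subgroup.zpowers x ≤ extender S Q (Q.subtype.comp α.toMonoidHom) := by
        refine sup_le hQe ?_
        rw [Subgroup.zpowers_le]
        refine H802.centralizerIn_le_extender _ _ _ ⟨hxS, ?_⟩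
        exact Subgroup.centralizer_le hQS hx.2
      have hψm : Mp F (Q ⊔ Subgroup.zpowers x) (ex ψ) := (mp_ex hψ).res hle
      have hlt : Nat.card Q < Nat.card (Q ⊔ Subgroup.zpowers x : Subgroup Ω) := by
        have hfin2 : Finite (Q ⊔ Subgroup.zpowers x : Subgroup Ω) :=
          H802.finite_of_le (sup_le hQS hzS)
        refine lt_of_le_of_ne (Subgroup.card_le_of_le le_sup_left) (fun h => hxQ ?_)
        rw [Subgroup.eq_of_le_of_card_ge le_sup_left h.ge]
        exact hxz Q
      obtain ⟨k, hk, h1, h2⟩ := hbig _ _ hψm hlt (ht.trans hlt.le)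
      rw [sup_assoc, sup_idem] at hk
      refine ⟨k, hk, fun y hy => ?_, h2⟩
      rw [h1 y ((le_sup_left : Q ≤ _) hy), ex_apply _ (hQe hy), hψe y hy (hQe hy), hf y hy]
      rfl

/-- Maps on large subgroups fix `x`. -/
theorem fix_of_ext {x : Ω} {P : Subgroup Ω} {f : Ω → Ω}
    (h : ∃ g : Ω → Ω, Mp F (P ⊔ Subgroup.zpowers x) g ∧ (∀ y ∈ P, g y = f y) ∧ g x = x)
    (hx : x ∈ P) : f x = x := by
  obtain ⟨g, -, h1, h2⟩ := h
  rw [← h1 x hx, h2]

/-- Goodness passes from a fully normalized conjugate to `R`, if `N_S(R)` is large. -/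
theorem good_of_conj {p : ℕ} [Fact p.Prime] [Finite S] (hS : IsPGroup p S) (hF : F.IsSaturated p)
    {x : Ω} (t : ℕ)
    (hfix : ∀ (P : Subgroup Ω) (f : Ω → Ω), Mp F P f → t ≤ Nat.card P → x ∈ P → f x = x)
    {R R' : Subgroup Ω} (hR' : F.IsConj R R') (hR'n : F.IsFullyNormalized R')
    (ht : t ≤ Nat.card (normalizerIn S R)) (hgood : Good F x R') : Good F x R := by
  obtain ⟨φ, hφ, hr⟩ := hR'
  have hRS : R ≤ S := (F.le_of_mem hφ).1
  have hfinR : Finite R := H802.finite_of_le hRS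
  obtain ⟨β, hβ, ψ, hψ, h1, h2⟩ := H802.exists_extension_normalizer hS hF hφ hr hR'n
  have hRN : R ≤ normalizerIn S R := H802.le_normalizerIn hRS
  have hψm : Mp F (normalizerIn S R) (ex ψ) := mp_ex hψ
  have hψR : ∀ y ∈ R, ex ψ y ∈ R' := by
    intro y hy
    have hy' : φ ⟨y, hy⟩ ∈ R' := by rw [← hr]; exact ⟨_, rfl⟩
    rw [ex_apply _ (hRN hy), h1 ⟨y, hy⟩ hy' (hRN hy)]
    exact (β _).2
  intro f hf hfR hx
  have hψx : ex ψ x = x := hfix _ _ hψm ht (hRN hx)
  -- the inverse of `ψ` on `R'`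
  have hrange : ∀ y, y ∈ R' ↔ ∃ z ∈ R, ex ψ z = y := by
    intro y
    constructor
    · intro hy
      have h3 : ((β.symm ⟨y, hy⟩ : R') : Ω) ∈ φ.range := by rw [hr]; exact (β.symm ⟨y, hy⟩).2
      obtain ⟨z, hz⟩ := h3
      refine ⟨z, z.2, ?_⟩
      have hz' : φ z ∈ R' := by rw [← hr]; exact ⟨_, rfl⟩
      rw [ex_apply _ (hRN z.2), h1 z hz' (hRN z.2)]
      have h4 : (⟨φ z, hz'⟩ : R') = β.symm ⟨y, hy⟩ := Subtype.ext hz
      rw [h4, MulEquiv.apply_symm_apply]
    · rintro ⟨z, hz, rfl⟩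
      exact hψR z hz
  obtain ⟨k, hk, hk1, hk2⟩ := (hψm.res hRN).exists_symm le_rfl hrange
  have hxR' : x ∈ R' := by
    have := hψR x hx
    rwa [hψx] at this
  have hkx : k x = x := by
    have := hk1 x hx
    rwa [hψx] at this
  have h5 : Mp F R' (fun y => ex ψ (f (k y))) :=
    (hk.comp hf (fun y hy => (hk2 y hy).1)).comp (hψm.res hRN)
      (fun y hy => hfR _ (hk2 y hy).1)
  have h6 := hgood _ h5 (fun y hy => hψR _ (hfR _ (hk2 y hy).1)) hxR'
  have h7 : ex ψ (f x) = x := by
    have h8 : ex ψ (f (k x)) = x := h6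
    rwa [hkx] at h8
  have h8 := hk1 (f x) (hfR x hx)
  rw [h7, hkx] at h8
  exact h8.symm

/-- If every map extends to a map fixing `x` then `x` is in the centre. -/
theorem mem_center_of_ext {x : Ω} (hx : x ∈ S)
    (h : ∀ (P : Subgroup Ω) (f : Ω → Ω), Mp F P f →
      ∃ g : Ω → Ω, Mp F (P ⊔ Subgroup.zpowers x) g ∧ (∀ y ∈ P, g y = f y) ∧ g x = x) :
    x ∈ F.center := by
  have h1 : F.IsCentral (Subgroup.zpowers x) := by
    refine ⟨by rw [Subgroup.zpowers_le]; exact hx, fun P φ hφ => ?_⟩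
    obtain ⟨g, ⟨ψ, hψ, h2⟩, h3, h4⟩ := h P (ex φ) (mp_ex hφ)
    have hxz : x ∈ P ⊔ Subgroup.zpowers x :=
      (le_sup_right : _ ≤ P ⊔ Subgroup.zpowers x) (Subgroup.mem_zpowers x)
    refine ⟨ψ, hψ, fun y => ?_, fun y => ?_⟩
    · have h5 := h2 y ((le_sup_left : P ≤ _) y.2)
      rw [h3 y y.2, ex_coe] at h5
      exact h5
    · have h5 := h2 y ((le_sup_right : _ ≤ P ⊔ Subgroup.zpowers x) y.2)
      rw [mp_zpowers ⟨ψ, hψ, h2⟩ hxz h4 y y.2] at h5
      exact h5
  exact (le_sSup (a := Subgroup.zpowers x) h1) (Subgroup.mem_zpowers x)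

/-- A bad subgroup with the largest normalizer and, after that, of largest order is centric. -/
theorem isCentric_of_bad {p : ℕ} [Fact p.Prime] [Finite S] (hS : IsPGroup p S) (hF : F.IsSaturated p)
    {x : Ω} {Q : Subgroup Ω} (hQ : F.IsFullyNormalized Q) (hbad : ¬ Good F x Q)
    (hfix : ∀ (P : Subgroup Ω) (f : Ω → Ω), Mp F P f → Nat.card (normalizerIn S Q) ≤ Nat.card P →
      x ∈ P → f x = x)
    (hmax : ∀ R : Subgroup Ω, F.IsFullyNormalized R →
      Nat.card (normalizerIn S Q) ≤ Nat.card (normalizerIn S R) → Nat.card Q < Nat.card R →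
      Good F x R) : F.IsCentric Q := by
  by_contra hc
  have hQS : Q ≤ S := hQ.1
  have hnot : ¬ centralizerIn S Q ≤ Q := fun h => hc
    (H802.isCentric_of_isFullyCentralized
      (H802.isFullyCentralized_of_isFullyNormalized hS hF hQ) h)
  set R : Subgroup Ω := Q ⊔ centralizerIn S Q with hRdef
  have hQR : Q ≤ R := le_sup_left
  have hRS : R ≤ S := sup_le hQS inf_le_left
  have hfinR : Finite R := H802.finite_of_le hRS
  have hlt : Nat.card Q < Nat.card R := by
    refine lt_of_le_of_ne (Subgroup.card_le_of_le hQR) (fun h => hnot ?_)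
    have heq : Q = R := Subgroup.eq_of_le_of_card_ge hQR h.ge
    exact (le_sup_right : centralizerIn S Q ≤ R).trans heq.ge
  have hNR : normalizerIn S Q ≤ normalizerIn S R := by
    refine le_inf inf_le_left ?_
    intro g hg
    have hgQ := hg.2
    -- conjugation by any element of `N_S(Q)` carries `R` into `R`
    have key : ∀ g ∈ normalizerIn S Q, ∀ y ∈ R, g * y * g⁻¹ ∈ R := by
      intro g hg y hy
      have h1 : R ≤ (Q ⊔ centralizerIn S Q).comap (MulAut.conj g).toMonoidHom := by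
        refine sup_le ?_ ?_
        · intro z hz
          exact (le_sup_left : Q ≤ _) ((Subgroup.mem_normalizer_iff.1 hg.2 z).1 hz)
        · intro z hz
          refine (le_sup_right : _ ≤ Q ⊔ centralizerIn S Q) ⟨?_, ?_⟩
          · exact S.mul_mem (S.mul_mem hg.1 hz.1) (S.inv_mem hg.1)
          · refine Subgroup.mem_centralizer_iff.2 fun q hq => ?_
            have h2 : g⁻¹ * q * g ∈ Q := by
              have := (Subgroup.mem_normalizer_iff.1 (inv_mem hg.2) q).1 hq
              simpa using this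
            have h3 := Subgroup.mem_centralizer_iff.1 hz.2 _ h2
            show q * (g * z * g⁻¹) = g * z * g⁻¹ * q
            calc q * (g * z * g⁻¹) = g * (g⁻¹ * q * g * z) * g⁻¹ := by group
              _ = g * (z * (g⁻¹ * q * g)) * g⁻¹ := by rw [h3]
              _ = _ := by group
      exact h1 hy
    refine Subgroup.mem_normalizer_iff.2 fun y => ⟨key g hg y, fun hy => ?_⟩
    have := key g⁻¹ (inv_mem hg) _ hy
    have h4 : g⁻¹ * (g * y * g⁻¹) * g⁻¹⁻¹ = y := by group
    rwa [h4] at this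
  have hcN : Nat.card (normalizerIn S Q) ≤ Nat.card (normalizerIn S R) := by
    have : Finite (normalizerIn S R) := H802.finite_of_le inf_le_left
    exact Subgroup.card_le_of_le hNR
  obtain ⟨R', hRR', hR'n⟩ := H802.exists_isFullyNormalized hS hF hRS
  have hcN' : Nat.card (normalizerIn S R) ≤ Nat.card (normalizerIn S R') :=
    hR'n.2 R (H802.isConj_symm hRR')
  have hgR' : Good F x R' := hmax R' hR'n (hcN.trans hcN')
    (hlt.trans_eq (H802.isConj_card_eq hRR'))
  have hgR : Good F x R := good_of_conj hS hF _ hfix hRR' hR'n hcN hgR'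
  refine hbad fun f hf hfQ hx => ?_
  obtain ⟨φ, hφ, h1⟩ := hf
  have hfinQ : Finite Q := H802.finite_of_le hQS
  have hr : φ.range = Q := H802.range_eq_of_mapsTo hφ fun y => by rw [h1 y y.2]; exact hfQ y y.2
  obtain ⟨ψ, hψ, hψe⟩ := (H802.isReceptive_of_isFullyNormalized hS hF hQ).2 Q φ hφ hr
  have hQe : Q ≤ extender S Q φ := H802.le_extender hQS (F.le_of_mem hφ).2
  have hRe : R ≤ extender S Q φ := sup_le hQe (H802.centralizerIn_le_extender _ _ _)
  have hψm : Mp F R (ex ψ) := (mp_ex hψ).res hRe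
  have hψQ : ∀ y (hy : y ∈ Q), ex ψ y = f y := fun y hy => by
    rw [ex_apply _ (hQe hy), hψe y hy (hQe hy), h1 y hy]
  have h2 := hgR (ex ψ) hψm (mp_sup_mem hψm (R := R) ?_ ?_) (hQR hx)
  · rw [← hψQ x hx, h2]
  · intro y hy
    rw [hψQ y hy]
    exact hQR (hfQ y hy)
  · intro y hy
    refine (le_sup_right : _ ≤ Q ⊔ centralizerIn S Q) ?_
    have hyR : y ∈ R := (le_sup_right : _ ≤ Q ⊔ centralizerIn S Q) hy
    rw [ex_apply _ (hRe hyR)]
    exact H802.apply_mem_centralizerIn hψ hQe hr (fun x hx => hψe x hx _) _ hy.2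

end general

section model

variable {Ω : Type*} [Group Ω] {T : Subgroup Ω} {L : Type*} [Group L]

theorem thompson_range (ι : T →* L) (hι : Function.Injective ι) :
    thompsonSubgroupAOf ι.range = (thompsonSubgroupAOf (⊤ : Subgroup T)).map ι := by
  rw [Cfsg.Agent.PLocal.ThompsonJA.map_thompsonSubgroupAOf ι hι, ← MonoidHom.range_eq_map]

theorem thompson_subtype (T : Subgroup Ω) :
    thompsonSubgroupAOf T = (thompsonSubgroupAOf (⊤ : Subgroup T)).map T.subtype := by
  rw [Cfsg.Agent.PLocal.ThompsonJA.map_thompsonSubgroupAOf _ T.subtype_injective,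
    ← MonoidHom.range_eq_map, Subgroup.range_subtype]

theorem mem_thompson_range (ι : T →* L) (hι : Function.Injective ι) (z : T) :
    ι z ∈ thompsonSubgroupAOf ι.range ↔ (z : Ω) ∈ thompsonSubgroupAOf T := by
  rw [thompson_range ι hι, thompson_subtype T]
  constructor
  · rintro ⟨w, hw, h⟩
    rw [hι h] at hw
    exact ⟨z, hw, rfl⟩
  · rintro ⟨w, hw, h⟩
    have : w = z := Subtype.ext h
    rw [this] at hw
    exact ⟨z, hw, rfl⟩

theorem mem_thompson_of_center [Finite T] {x : Ω}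
    (hx : x ∈ T ⊓ Subgroup.centralizer (T : Set Ω)) : x ∈ thompsonSubgroupAOf T := by
  rw [thompson_subtype T]
  refine ⟨⟨x, hx.1⟩, ?_, rfl⟩
  refine Cfsg.Agent.PLocal.ThompsonJA.centerThompsonAOf_le_thompsonSubgroupAOf _
    (Cfsg.Agent.PLocal.ThompsonJA.inf_centralizer_le_centerThompsonAOf _ ⟨Subgroup.mem_top _, ?_⟩)
  refine Subgroup.mem_centralizer_iff.2 fun y _ => ?_
  apply Subtype.ext
  exact Subgroup.mem_centralizer_iff.1 hx.2 y y.2

end model

section main

variable {Ω : Type u} [Group Ω] {S : Subgroup Ω} {F : FusionSystem S}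

/-- Goodness of `S` from goodness of `J(S)`. -/
theorem good_top [Finite S] {x : Ω} (hx : x ∈ S ⊓ Subgroup.centralizer (S : Set Ω))
    (hJ : Good F x (thompsonSubgroupAOf S)) : Good F x S := by
  intro f hf hfS hxS
  obtain ⟨α, hα, hfα⟩ := hf.exists_aut hfS
  have hJS := Cfsg.Agent.PLocal.ThompsonJA.thompsonSubgroupAOf_le S
  refine hJ f (hf.res hJS) ?_ (mem_thompson_of_center hx)
  intro y hy
  rw [hfα y (hJS hy)]
  have h1 := (mem_thompson_range (T := S) (L := S) α.toMonoidHom α.injective ⟨y, hJS hy⟩).2 hy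
  have h2 : (α.toMonoidHom : S →* S).range = ⊤ := MonoidHom.range_eq_top.2 α.surjective
  rw [h2] at h1
  rw [thompson_subtype S]
  exact ⟨_, h1, rfl⟩

/-- **Elements of `Z(S)` fixed by `Aut_F(J(S))` are central in `F`**, if the corresponding local statement on the
models of the `N_F(Q)`, `Q` centric and fully normalized, holds. -/
theorem mem_center_of_local {p : ℕ} [Fact p.Prime] [Finite S] (hS : IsPGroup p S)
    (hF : F.IsSaturated p) {x : Ω} (hx : x ∈ S ⊓ Subgroup.centralizer (S : Set Ω))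
    (hJ : Good F x (thompsonSubgroupAOf S))
    (hloc : ∀ Q : Subgroup Ω, F.IsFullyNormalized Q → F.IsCentric Q → x ∈ Q →
      ∀ E : FusionSystem (normalizerIn S Q), F.IsNormalizerSystem Q E →
      ∀ (L : Type u) [Group L] [Finite L] (ι : ↥(normalizerIn S Q) →* L), E.IsModel p L ι →
      ((Q.subgroupOf (normalizerIn S Q)).map ι).Normal →
      ∀ hxN : x ∈ normalizerIn S Q,
      (∀ g ∈ Subgroup.normalizer ((thompsonSubgroupAOf ι.range : Subgroup L) : Set L),
        g * ι ⟨x, hxN⟩ = ι ⟨x, hxN⟩ * g) → ∀ g : L, g * ι ⟨x, hxN⟩ = ι ⟨x, hxN⟩ * g) :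
    x ∈ F.center := by
  classical
  have hxS : x ∈ S := hx.1
  have hgS : Good F x S := good_top hx hJ
  -- all fully normalized subgroups are good
  have hall : ∀ R : Subgroup Ω, F.IsFullyNormalized R → Good F x R := by
    by_contra hcon
    push Not at hcon
    obtain ⟨R₀, hR₀n, hR₀b⟩ := hcon
    -- the lexicographically largest bad subgroup
    have hfinS := H793.finite_subgroups_le (S := S)
    let B : Set (Subgroup Ω) := {R | F.IsFullyNormalized R ∧ ¬ Good F x R}
    have hBfin : B.Finite := hfinS.subset fun R hR => hR.1.1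
    let w : Subgroup Ω → ℕ := fun R =>
      Nat.card (normalizerIn S R) * (Nat.card S + 1) + Nat.card R
    obtain ⟨Q, hQB, hQmax⟩ := Set.exists_max_image B w hBfin ⟨R₀, hR₀n, hR₀b⟩
    obtain ⟨hQn, hQb⟩ := hQB
    have hQS : Q ≤ S := hQn.1
    have hmax : ∀ R : Subgroup Ω, F.IsFullyNormalized R →
        (Nat.card (normalizerIn S Q) < Nat.card (normalizerIn S R) ∨
          (Nat.card (normalizerIn S Q) ≤ Nat.card (normalizerIn S R) ∧ Nat.card Q < Nat.card R)) →
        Good F x R := by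
      intro R hRn hR
      by_contra hRb
      have h1 : w R ≤ w Q := hQmax R ⟨hRn, hRb⟩
      have h2 : Nat.card Q ≤ Nat.card S := Subgroup.card_le_of_le hQS
      simp only [w] at h1
      rcases hR with hR | ⟨hR, hR'⟩
      · have h3 : (Nat.card (normalizerIn S Q) + 1) * (Nat.card S + 1) ≤
            Nat.card (normalizerIn S R) * (Nat.card S + 1) := Nat.mul_le_mul_right _ hR
        rw [Nat.add_mul, Nat.one_mul] at h3
        omega
      · have h3 : Nat.card (normalizerIn S Q) * (Nat.card S + 1) ≤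
            Nat.card (normalizerIn S R) * (Nat.card S + 1) := Nat.mul_le_mul_right _ hR
        omega
    have hext := ext_of_good hS hF hx (Nat.card (normalizerIn S Q))
      (fun R hRn hR => hmax R hRn (Or.inl hR)) hgS
    have hfix : ∀ (P : Subgroup Ω) (f : Ω → Ω), Mp F P f →
        Nat.card (normalizerIn S Q) ≤ Nat.card P → x ∈ P → f x = x :=
      fun P f hf ht hxP => fix_of_ext (hext P f hf ht) hxP
    have hQc : F.IsCentric Q := isCentric_of_bad hS hF hQn hQb hfix
      (fun R hRn h1 h2 => hmax R hRn (Or.inr ⟨h1, h2⟩))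
    -- the model of `N_F(Q)`
    obtain ⟨E, hE⟩ := H802.exists_normalizerSystem F hQS
    have hEs : E.IsSaturated p := H802.normalizerSystem_isSaturated hS hF hQn hE
    have hNS : normalizerIn S Q ≤ S := inf_le_left
    have hfinN : Finite (normalizerIn S Q) := H802.finite_of_le hNS
    have hNp : IsPGroup p (normalizerIn S Q) := hS.to_le hNS
    obtain ⟨L, hL, ι, hm, hQL, -⟩ := H771.exists_model hNp hEs
      (H753.isNormal_normalizerSystem hQS hE) (H753.isCentric_normalizerSystem hE hQc)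
    have hfinL : Finite L := hm.1
    have hreal := hm.2.1
    have hιi : Function.Injective ι := hreal.1
    refine hQb fun f hf hfQ hxQ => ?_
    have hQN : Q ≤ normalizerIn S Q := H802.le_normalizerIn hQS
    have hxN : x ∈ normalizerIn S Q := hQN hxQ
    have hxZN : x ∈ normalizerIn S Q ⊓ Subgroup.centralizer (normalizerIn S Q : Set Ω) :=
      ⟨hxN, Subgroup.centralizer_le hNS hx.2⟩
    -- `J(N_S(Q))` is good
    have hJle := Cfsg.Agent.PLocal.ThompsonJA.thompsonSubgroupAOf_le (normalizerIn S Q)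
    have hJg : Good F x (thompsonSubgroupAOf (normalizerIn S Q)) := by
      by_cases hNeq : normalizerIn S Q = S
      · rw [hNeq]; exact hJ
      · have hJS : thompsonSubgroupAOf (normalizerIn S Q) ≤ S := hJle.trans hNS
        have hle : normalizerIn S (normalizerIn S Q) ≤
            normalizerIn S (thompsonSubgroupAOf (normalizerIn S Q)) :=
          inf_le_inf_left _
            (Cfsg.Agent.PLocal.ThompsonJA.normalizer_le_normalizer_thompsonSubgroupAOf _)
        have hfinNN : Finite (normalizerIn S (thompsonSubgroupAOf (normalizerIn S Q))) :=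
          H802.finite_of_le inf_le_left
        have hlt : Nat.card (normalizerIn S Q) <
            Nat.card (normalizerIn S (thompsonSubgroupAOf (normalizerIn S Q))) :=
          (H802.card_lt_card_normalizerIn hS hNS hNeq).trans_le (Subgroup.card_le_of_le hle)
        obtain ⟨R', hRR', hR'n⟩ := H802.exists_isFullyNormalized hS hF hJS
        exact good_of_conj hS hF _ hfix hRR' hR'n hlt.le
          (hmax R' hR'n (Or.inl (hlt.trans_le (hR'n.2 _ (H802.isConj_symm hRR')))))
    -- `N_L(J)` centralizes `ι x`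
    have hJL : ∀ g ∈ Subgroup.normalizer ((thompsonSubgroupAOf ι.range : Subgroup L) : Set L),
        g * ι ⟨x, hxN⟩ = ι ⟨x, hxN⟩ * g := by
      intro g hg
      obtain ⟨k, hk, hke⟩ := H753.exists_mp_of_conj hreal hJle g (fun y => by
        have h1 := (mem_thompson_range ι hιi ⟨y, hJle y.2⟩).2 y.2
        have h2 := (Subgroup.mem_normalizer_iff.1 hg _).1 h1
        obtain ⟨n, hn⟩ := Cfsg.Agent.PLocal.ThompsonJA.thompsonSubgroupAOf_le _ h2
        exact ⟨n, hn⟩)
      have hkF : Mp F (thompsonSubgroupAOf (normalizerIn S Q)) k :=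
        ((H753.mp_normalizerSystem_iff hE).1 hk).1
      have hxJ : x ∈ thompsonSubgroupAOf (normalizerIn S Q) := mem_thompson_of_center hxZN
      have hkx := hJg k hkF (fun y hy => by
        obtain ⟨h1, h2⟩ := hke y hy
        have h3 := (mem_thompson_range ι hιi ⟨y, hJle hy⟩).2 hy
        have h4 := (Subgroup.mem_normalizer_iff.1 hg _).1 h3
        rw [← h2] at h4
        exact (mem_thompson_range ι hιi ⟨k y, h1⟩).1 h4) hxJ
      obtain ⟨h1, h2⟩ := hke x hxJ
      have h3 : (⟨k x, h1⟩ : ↥(normalizerIn S Q)) = ⟨x, hxN⟩ := Subtype.ext hkx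
      rw [h3] at h2
      calc g * ι ⟨x, hxN⟩ = g * ι ⟨x, hxN⟩ * g⁻¹ * g := by group
        _ = ι ⟨x, hxN⟩ * g := by rw [← h2]
    have hcen := hloc Q hQn hQc hxQ E hE L ι hm hQL hxN hJL
    -- `f` is induced by an element of `L`
    have hfE : Mp E Q f := by
      rw [H753.mp_normalizerSystem_iff hE]
      have hfinQ : Finite Q := H802.finite_of_le hQS
      refine ⟨hf, hQN, fun y hy => hQN (hfQ y hy), f, ?_, fun _ _ => rfl, hfQ,
        fun y hy => hf.surj hfQ hy⟩
      rw [sup_idem]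
      exact hf
    obtain ⟨g, hg⟩ := H753.exists_conj_of_mp hreal hfE
    obtain ⟨h1, h2⟩ := hg x hxQ hxN
    rw [hcen g, mul_inv_cancel_right] at h2
    exact congrArg Subtype.val (hιi h2)
  refine mem_center_of_ext hxS fun P f hf => ?_
  exact ext_of_good hS hF hx 0 (fun R hRn _ => hall R hRn) hgS P f hf (Nat.zero_le _)

end main

end Cfsg.Agent.H793
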