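import Cfsg.Agent.H793.ExcC

/-!
# Exceptional groups of maximal class: essential subgroups of `C` (helper793)

* `pairing` : in an exceptional group `⁅v, w⁆ ≠ 1` for `v`, `w` of exact depths `i`, `j` with `i + j = n - 1`;
* `E2` : an essential subgroup `E ≤ C`, `E ≰ V 1` is equal to `C`.
-/

set_option autoImplicit false

namespace Cfsg.Agent.H793.ExcA

open Cfsg Cfsg.FusionSystem Cfsg.Agent.H802 Cfsg.Agent.H766 Cfsg.Agent.H467.MaxClass
open Cfsg.Agent.H797.MaxOmega Cfsg.Agent.H797.MaxParity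
open Matrix (SpecialLinearGroup)
open scoped commutatorElement

universe u

section pairing

variable {P : Type u} [Group P] {p n : ℕ} {W : ℕ → Subgroup P}

theorem pairing_t [Finite P] (h : MC P p n W) [hp : Fact p.Prime] (hp3 : 3 ≤ p)
    (hne : h.Ksub (n - 2) ≠ W 1) {s a : P} (hs : s ∉ W 1) (ha : a ∈ W 1) (ha' : a ∉ W 2) :
    ∀ j i, i + j + 3 = n → ⁅t s a i, t s a j⁆ ≠ 1 := by
  have h4 := h.four_le
  have hpos : ∀ j, 2 ≤ j → j < n - 2 → ⁅W j, W 1⁆ ≤ W (j + 2) :=
    fun j h2 hj => h.blackburn hp3 j h2 (by omega)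
  have hdeg := h.deg hpos
  have ht := h.t_mem (s := s) ha
  have R : ∀ i j, i + j + 4 = n → ⁅t s a (i + 1), t s a j⁆ * ⁅t s a i, t s a (j + 1)⁆ = 1 := by
    intro i j hij
    have h1 := h.deriv (i := i + 1) (j := j + 1) (by omega) (by omega) (ht i) (ht j) s
    rw [show i + 1 + (j + 1) + 2 = n by omega, h.bot, Subgroup.mem_bot, inv_mul_eq_one] at h1
    have h2 : ⁅⁅t s a i, t s a j⁆, s⁆ ∈ W n := by
      have h3 := hdeg (j + 1) (i + 1) (by omega) (by omega) (by omega)
        (Subgroup.commutator_mem_commutator (ht i) (ht j))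
      have h5 := h.comm_mem (x := s) h3
      rwa [show i + 1 + (j + 1) + 1 + 1 = n by omega] at h5
    rw [h.bot, Subgroup.mem_bot] at h2
    rw [h2] at h1
    exact h1.symm
  have h0 : ⁅t s a (n - 3), a⁆ ≠ 1 := by
    intro e
    apply hne
    apply h.eq_W1 _ (h.Ksub_ne_top' (by omega) (by omega))
    have hs2 : t s a (n - 3) ∈ W (n - 2) := by
      have := ht (n - 3)
      rwa [show n - 3 + 1 = n - 2 by omega] at this
    have hs3 : t s a (n - 3) ∉ W (n - 2 + 1) := by
      have := t_exact h hp3 hs ha ha' (n - 3) (by omega)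
      rwa [show n - 3 + 2 = n - 2 + 1 by omega] at this
    have haK : a ∈ h.Ksub (n - 2) := by
      refine (h.mem_K_iff (i := n - 2) (by omega) hs2 hs3 a).mpr ?_
      rw [e]
      exact one_mem _
    intro x hx
    obtain ⟨c, hc⟩ := h.exists_zpow (i := 1) (by omega) ha ha' hx
    have h3 : x = a ^ c * ((a ^ c)⁻¹ * x) := by group
    rw [h3]
    exact mul_mem (zpow_mem haK c) (h.W2_le_Ksub (n - 2) hc)
  intro j
  induction j with
  | zero =>
    intro i hi
    rw [show i = n - 3 by omega]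
    exact h0
  | succ j ih =>
    intro i hi e
    apply ih (i + 1) (by omega)
    have := R i j (by omega)
    rwa [e, mul_one] at this

/-- **The pairing** in exceptional groups. -/
theorem pairing [Finite P] (h : MC P p n W) [hp : Fact p.Prime] (hp3 : 3 ≤ p)
    (hne : h.Ksub (n - 2) ≠ W 1) {i j : ℕ} (hi : 1 ≤ i) (hj : 1 ≤ j) (hij : i + j + 1 = n) {v w : P}
    (hv : v ∈ W i) (hv' : v ∉ W (i + 1)) (hw : w ∈ W j) (hw' : w ∉ W (j + 1)) : ⁅v, w⁆ ≠ 1 := by
  have h4 := h.four_le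
  obtain ⟨s, -, hs⟩ := h.ne_succ (i := 0) (by omega)
  rw [zero_add] at hs
  obtain ⟨a, ha, ha'⟩ := h.ne_succ (i := 1) (by omega)
  have ht := h.t_mem (s := s) ha
  intro e
  apply pairing_t h hp3 hne hs ha ha' (j - 1) (i - 1) (by omega)
  have hti : t s a (i - 1) ∈ W i := by
    have := ht (i - 1)
    rwa [show i - 1 + 1 = i by omega] at this
  have htj : t s a (j - 1) ∈ W j := by
    have := ht (j - 1)
    rwa [show j - 1 + 1 = j by omega] at this
  obtain ⟨k, hk⟩ := h.exists_zpow (by omega) hv hv' hti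
  obtain ⟨l, hl⟩ := h.exists_zpow (by omega) hw hw' htj
  have hW : ∀ a b : P, ⁅a, b⁆ ∈ W n → Commute a b := by
    intro a b hab
    rw [h.bot, Subgroup.mem_bot] at hab
    exact commutatorElement_eq_one_iff_commute.1 hab
  have e1 : t s a (i - 1) = v ^ k * ((v ^ k)⁻¹ * t s a (i - 1)) := by group
  have e2 : t s a (j - 1) = w ^ l * ((w ^ l)⁻¹ * t s a (j - 1)) := by group
  rw [commutatorElement_eq_one_iff_commute, e1, e2]
  have c1 : Commute (v ^ k) (w ^ l) := (commutatorElement_eq_one_iff_commute.1 e).zpow_zpow k l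
  have c2 : Commute (v ^ k) ((w ^ l)⁻¹ * t s a (j - 1)) := by
    apply hW
    have := h.comm_comm_mem (zpow_mem hv k) hl
    rwa [show i + (j + 1) = n by omega] at this
  have c3 : Commute ((v ^ k)⁻¹ * t s a (i - 1)) (w ^ l) := by
    apply hW
    have := h.comm_comm_mem hk (zpow_mem hw l)
    rwa [show i + 1 + j = n by omega] at this
  have c4 : Commute ((v ^ k)⁻¹ * t s a (i - 1)) ((w ^ l)⁻¹ * t s a (j - 1)) := by
    apply hW
    have := h.comm_comm_mem hk hl
    exact h.antitone (by omega) this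
  exact Commute.mul_left (Commute.mul_right c1 c2) (Commute.mul_right c3 c4)

end pairing

variable {Ω : Type u} [Group Ω] {S : Subgroup Ω} {p n : ℕ} {W : ℕ → Subgroup S}

theorem V_pairing [Finite S] (h : MC S p n W) [hp : Fact p.Prime] (hp3 : 3 ≤ p)
    (hne : h.Ksub (n - 2) ≠ W 1) {i j : ℕ} (hi : 1 ≤ i) (hj : 1 ≤ j) (hij : i + j + 1 = n) {v w : Ω}
    (hv : v ∈ V W i) (hv' : v ∉ V W (i + 1)) (hw : w ∈ V W j) (hw' : w ∉ V W (j + 1)) : ⁅v, w⁆ ≠ 1 := by
  obtain ⟨hvS, hv1⟩ := mem_V.1 hv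
  obtain ⟨hwS, hw1⟩ := mem_V.1 hw
  intro e
  exact pairing h hp3 hne hi hj hij hv1 (fun hh => hv' (mem_V.2 ⟨hvS, hh⟩)) hw1
    (fun hh => hw' (mem_V.2 ⟨hwS, hh⟩)) (Subtype.ext e)

/-- order of `E` -/
theorem Side.card [Finite S] {h : MC S p n W} [hp : Fact p.Prime]
    {E : Subgroup Ω} {x : Ω} (s : Side h E x) {j : ℕ} (hj : E ⊓ V W 1 = V W j) (hjn : j ≤ n) :
    Nat.card E = p ^ (n - j + 1) := by
  have hVE : V W j ≤ E := by rw [← hj]; exact inf_le_left
  have h1 : (V W 1).relIndex E ∣ p := by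
    have h5 := Subgroup.relIndex_map_map_of_injective (W 1) (E.subgroupOf S) S.subtype_injective
    rw [Subgroup.subgroupOf_map_subtype, inf_eq_left.2 s.leS] at h5
    have h6 : (V W 1).relIndex E = (W 1).relIndex (E.subgroupOf S) := h5
    have h1n := h.normal 1
    rw [h6]
    refine (Subgroup.relIndex_dvd_index_of_normal _ _).trans ?_
    rw [h.W1_index]
  have h1' : (V W 1).relIndex E = p := by
    rcases (Nat.dvd_prime hp.out).1 h1 with h2 | h2
    · rw [Subgroup.relIndex_eq_one] at h2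
      exact absurd (h2 s.mem) s.notMem
    · exact h2
  have h2 : Nat.card E = Nat.card ((V W 1).subgroupOf E) * (V W 1).relIndex E := by
    rw [Subgroup.relIndex, Subgroup.card_mul_index]
  have h3 : (V W 1).subgroupOf E = (V W j).subgroupOf E := by
    ext e
    rw [Subgroup.mem_subgroupOf, Subgroup.mem_subgroupOf, ← hj]
    exact ⟨fun hh => ⟨e.2, hh⟩, fun hh => hh.2⟩
  have h4 := V_card h (n - j) (by omega)
  rw [show n - (n - j) = j by omega] at h4
  rw [h2, h3, Nat.card_congr (Subgroup.subgroupOfEquivOfLe hVE).toEquiv, h4, h1', pow_succ]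

/-- (c) `j = n - 2` is impossible -/
theorem Side.not_cube [Finite S] (hS : IsPGroup p S) {h : MC S p n W} [hp : Fact p.Prime] (hp3 : 3 ≤ p)
    {F : FusionSystem S} (hF : F.IsSaturated p) {E : Subgroup Ω} (hE : F.IsEssential p E) {x : Ω}
    (s : Side h E x) (hj : E ⊓ V W 1 = V W (n - 2)) (hn : 5 ≤ n) : False := by
  have h4 := h.four_le
  have hfE : Finite E := finite_of_le s.leS
  have hEp : IsPGroup p E := hS.to_le s.leS
  have hcard : Nat.card E = p ^ 3 := by
    rw [s.card hj (by omega)]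
    congr 1
    omega
  have hgen : ∀ e ∈ E, ∃ k : ℤ, ∃ v ∈ V W (n - 2), e = x ^ k * v := by
    intro e he
    obtain ⟨k, hk⟩ := gen_zero h s.xS s.notMem (s.leS he)
    have h1 : (x ^ k)⁻¹ * e ∈ E := E.mul_mem (E.inv_mem (E.zpow_mem s.mem k)) he
    refine ⟨k, _, ?_, (mul_inv_cancel_left _ _).symm⟩
    rw [← hj]
    exact ⟨h1, hk⟩
  have hxv : ∀ v ∈ V W (n - 2), Commute x v := fun v hv => (((mem_C h).1 (s.le s.mem)).2 v hv).symm
  have hvv : ∀ v ∈ V W (n - 2), ∀ w ∈ V W (n - 2), Commute v w := fun v hv w hw =>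
    ((mem_C h).1 (s.le (s.z2 hw))).2 v hv
  have hab : ∀ y ∈ E, ∀ z ∈ E, y * z = z * y := by
    intro y hy z hz
    obtain ⟨k, v, hv, rfl⟩ := hgen y hy
    obtain ⟨l, w, hw, rfl⟩ := hgen z hz
    exact Commute.mul_left (Commute.mul_right ((Commute.refl x).zpow_zpow k l) ((hxv w hw).zpow_left k))
      (Commute.mul_right ((hxv v hv).symm.zpow_right l) (hvv v hv w hw))
  refine Cfsg.Agent.H797.MaxEss.no_elementary_cube hS h hp3 hn hF hE hab ?_ hcard
  by_contra hexp
  push Not at hexp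
  obtain ⟨y, hy, hyp⟩ := hexp
  rcases ess_frattini_card_of_card_cube hS hE hcard with h1 | ⟨h1, h2⟩
  · exact hyp (congrArg Subtype.val ((mul_comm_of_frattini_eq_bot hEp h1).2 ⟨y, hy⟩))
  · let f : E →* E := MonoidHom.mk' (fun e => e ^ p) (by
      intro a b
      have hc : Commute a b := Subtype.ext (hab a a.2 b b.2)
      exact hc.mul_pow p)
    have hr : f.range ≤ frattini E := by
      rintro _ ⟨e, rfl⟩
      exact Cfsg.Agent.Lib.FrattiniPGroup.pow_mem_frattini hEp e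
    have hk1 : f.ker.index ∣ p := by
      rw [Subgroup.index_ker, ← h1]
      exact Subgroup.card_dvd_of_le hr
    have hk2 : f.ker.index ≠ 1 := by
      intro hh
      rw [Subgroup.index_eq_one] at hh
      apply hyp
      have h3 : (⟨y, hy⟩ : E) ∈ f.ker := by rw [hh]; exact Subgroup.mem_top _
      exact congrArg Subtype.val ((MonoidHom.mem_ker).1 h3)
    have hk3 : f.ker.index = p := ((Nat.dvd_prime hp.out).1 hk1).resolve_left hk2
    have hΦ : frattini E ≤ f.ker := by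
      intro e he
      rw [MonoidHom.mem_ker]
      have h3 : (⟨e, he⟩ : frattini E) ^ p = 1 := by
        rw [← h1]
        exact pow_card_eq_one'
      exact congrArg Subtype.val h3
    refine ess_flag hS hE f.ker (fun α _ e he => ?_) hΦ (Or.inr hk3) (Or.inr ?_)
    · rw [MonoidHom.mem_ker] at he ⊢
      have he' : e ^ p = 1 := he
      show (α e) ^ p = 1
      rw [← map_pow, he', map_one]
    · have h3 := Subgroup.relIndex_mul_index hΦ
      rw [hk3, h2, pow_two] at h3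
      exact Nat.eq_of_mul_eq_mul_right hp.out.pos h3

/-- (b) `j = n - 3`, when the essential subgroups outside `V 1` have order at most `p ^ 4` -/
theorem Side.not_four [Finite S] (hS : IsPGroup p S) {h : MC S p n W} [hp : Fact p.Prime] (hp3 : 3 ≤ p)
    (hne : h.Ksub (n - 2) ≠ W 1) {F : FusionSystem S} (hF : F.IsSaturated p) {E : Subgroup Ω}
    (hE : F.IsEssential p E) {x : Ω} (s : Side h E x) (hj : E ⊓ V W 1 = V W (n - 3)) (hn : 6 ≤ n)
    (hall : ∀ Q : Subgroup Ω, F.IsEssential p Q → ¬ Q ≤ V W 1 → Nat.card Q ≤ p ^ 4) : False := by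
  have h4 := h.four_le
  have hfE : Finite E := finite_of_le s.leS
  have hp1 := hp.out.one_lt
  obtain ⟨α, hα, hα1, hα2, hα3⟩ := s.exists_neg hS hp3 hF hE hj hn
  obtain ⟨ψ, hψ, hψe⟩ := lift_normalizer hS hF hE.2.1 hα hα3
  have hcard : Nat.card E = p ^ 4 := by
    rw [s.card hj (by omega)]
    congr 1
    omega
  have hlt := card_lt_card_normalizerIn hS s.leS (ne_of_isEssential hS hF hE)
  obtain ⟨σ, hσ, hσe⟩ := ext_of_class hS hF
    (fun A => ¬ A ≤ V W 1 ∧ p ^ 4 < Nat.card A)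
    (fun A B ⟨hA1, hA2⟩ hAB hBS => by
      have hfB : Finite B := finite_of_le hBS
      refine ⟨fun hB => hA1 (hAB.trans hB), lt_of_lt_of_le hA2 (Subgroup.card_le_of_le hAB)⟩)
    (fun R φ hφ ⟨β, hβ, hβe⟩ => by
      have hRS := hom_le hφ
      have hc : Nat.card R = Nat.card φ.range :=
        Nat.card_congr (MonoidHom.ofInjective (F.injective_of_mem hφ)).toEquiv
      have hiff : R ≤ V W 1 ↔ φ.range ≤ V W 1 := by
        constructor
        · rintro hR _ ⟨y, rfl⟩
          obtain ⟨hyS, hy⟩ := mem_V.1 (hR y.2)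
          rw [hβe y hyS]
          exact ⟨_, map_mem h β.toMonoidHom β.surjective 1 hy, rfl⟩
        · intro hR y hy
          have h1 := hR ⟨⟨y, hy⟩, rfl⟩
          rw [hβe ⟨y, hy⟩ (hRS hy)] at h1
          obtain ⟨h2, h3⟩ := mem_V.1 h1
          have h5 := map_mem h (β⁻¹ : MulAut S).toMonoidHom (β⁻¹ : MulAut S).surjective 1 h3
          refine mem_V.2 ⟨hRS hy, ?_⟩
          have h6 : (β⁻¹ : MulAut S) (β ⟨y, hRS hy⟩) = ⟨y, hRS hy⟩ := MulAut.inv_apply_self _ _ _
          rw [← h6]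
          exact h5
      simp only [hc, hiff])
    (fun Q hQ ⟨hQ1, hQ2⟩ => by
      have := hall Q hQ hQ1
      omega)
    hψ ⟨fun hh => s.notMem (hh (le_normalizerIn s.leS s.mem)), by rw [← hcard]; exact hlt⟩
  have hσE : ∀ (e : E), σ ⟨e, s.leS e.2⟩ = ⟨α e, s.leS (α e).2⟩ := by
    intro e
    apply Subtype.ext
    have h1 := hσe ⟨e, le_normalizerIn s.leS e.2⟩ (s.leS e.2)
    rw [hψe e _] at h1
    exact h1.symm
  have hσs : Function.Surjective (σ : S →* S) := σ.surjective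
  have hfix : ∀ y ∈ W (n - 2), σ y = y := by
    intro y hy
    have h1 : (y : Ω) ∈ V W (n - 2) := ⟨y, hy, rfl⟩
    have h2 := hσE ⟨y, s.z2 h1⟩
    rw [hα1 ⟨y, s.z2 h1⟩ h1] at h2
    exact h2
  refine contraC h hp3 (by omega) (σ := (σ : S →* S)) hσs hne ?_ ?_ ?_
  · intro y hy
    have h1 : σ y = y := hfix y (h.antitone (by omega) hy)
    show (y ^ (1 : ℤ))⁻¹ * σ y ∈ _
    rw [h1, zpow_one, inv_mul_cancel]
    exact one_mem _
  · intro y hy
    have h1 : σ y = y := hfix y hy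
    show (y ^ (1 : ℤ))⁻¹ * σ y ∈ _
    rw [h1, zpow_one, inv_mul_cancel]
    exact one_mem _
  · refine eig_of_mem h hσs (i := 0) (by omega) (x := (⟨x, s.xS⟩ : S)) (by rw [h.zero]; trivial)
      (fun hh => s.notMem (mem_V.2 ⟨s.xS, hh⟩)) ?_
    have h1 := hα2 ⟨x, s.mem⟩
    have h2 := hσE ⟨x, s.mem⟩
    show ((⟨x, s.xS⟩ : S) ^ (-1 : ℤ))⁻¹ * σ ⟨x, s.xS⟩ ∈ _
    rw [zpow_neg, zpow_one, inv_inv, h2]
    obtain ⟨h3, h5⟩ := mem_V.1 h1
    exact h.antitone (by omega) h5

end Cfsg.Agent.H793.ExcA
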