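import Cfsg.Agent.H793.PearlC
import Cfsg.Agent.H767.EssFrat
import Cfsg.Agent.H797.MaxFinal

/-!
# Exceptional groups of maximal class: essential subgroups inside `C_S(Z₂(S))` (helper793)

Structure of subgroups `E` with `V (n - 2) ≤ E ≤ C`, `E ≰ V 1`, and the flag lemma.
-/

set_option autoImplicit false

namespace Cfsg.Agent.H793.ExcA

open Cfsg Cfsg.FusionSystem Cfsg.Agent.H802 Cfsg.Agent.H467.MaxClass
open Cfsg.Agent.H797.MaxOmega
open scoped commutatorElement

universe u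

variable {Ω : Type u} [Group Ω] {S : Subgroup Ω} {p n : ℕ} {W : ℕ → Subgroup S}

theorem V_gen (h : MC S p n W) [hp : Fact p.Prime] {i : ℕ} (hi : i < n) {w v : Ω} (hw : w ∈ V W i)
    (hw' : w ∉ V W (i + 1)) (hv : v ∈ V W i) : ∃ k : ℤ, (w ^ k)⁻¹ * v ∈ V W (i + 1) := by
  obtain ⟨hwS, hw1⟩ := mem_V.1 hw
  obtain ⟨hvS, hv1⟩ := mem_V.1 hv
  obtain ⟨k, hk⟩ := h.exists_zpow hi hw1 (fun hh => hw' (mem_V.2 ⟨hwS, hh⟩)) hv1
  exact ⟨k, mem_V.2 ⟨_, hk⟩⟩

theorem V_ne (h : MC S p n W) [hp : Fact p.Prime] {i : ℕ} (hi : i < n) :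
    ∃ a ∈ V W i, a ∉ V W (i + 1) := by
  obtain ⟨a, ha, ha'⟩ := h.ne_succ hi
  refine ⟨a, ⟨a, ha, rfl⟩, fun hh => ha' ?_⟩
  obtain ⟨_, h1⟩ := mem_V.1 hh
  exact h1

/-- `w` of exact depth `i`, `x ∉ V 1`: `⁅w, x⁆` has exact depth `i + 1`. -/
theorem comm_notMem [Finite S] (h : MC S p n W) [hp : Fact p.Prime] (hp3 : 3 ≤ p) {x : Ω} (hxS : x ∈ S)
    (hx : x ∉ V W 1) {i : ℕ} (h1 : 1 ≤ i) (hi : i + 3 ≤ n) {w : Ω} (hw : w ∈ V W i)
    (hw' : w ∉ V W (i + 1)) : ⁅w, x⁆ ∉ V W (i + 2) := by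
  intro hc
  apply hx
  refine V_of_K h hp3 h1 hi hxS (fun a ha => ?_)
  obtain ⟨hwS, hw1⟩ := mem_V.1 hw
  obtain ⟨haS, ha1⟩ := mem_V.1 ha
  have h2 : (⟨x, hxS⟩ : S) ∈ MC.K W i := by
    refine (h.mem_K_iff (by omega) hw1 (fun hh => hw' (mem_V.2 ⟨hwS, hh⟩)) _).2 ?_
    obtain ⟨_, h3⟩ := mem_V.1 hc
    exact h3
  exact mem_V.2 ⟨_, h2 _ ha1⟩

theorem mem_of_comm [Finite S] (h : MC S p n W) [hp : Fact p.Prime] (hp3 : 3 ≤ p) {x : Ω} (hxS : x ∈ S)
    (hx : x ∉ V W 1) {k : ℕ} (hk : k + 1 ≤ n) {w : Ω} (hw : w ∈ V W 1) (hc : ⁅w, x⁆ ∈ V W k) :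
    w ∈ V W (k - 1) := by
  rcases Nat.lt_or_ge k 2 with h2 | h2
  · exact V_anti h (by omega) hw
  have key : ∀ i, 1 ≤ i → i ≤ k - 1 → w ∈ V W i := by
    intro i hi
    induction i, hi using Nat.le_induction with
    | base => intro _; exact hw
    | succ i hi ih =>
      intro hik
      by_contra hcon
      exact comm_notMem h hp3 hxS hx hi (by omega) (ih (by omega)) hcon (V_anti h (by omega) hc)
  exact key _ (by omega) le_rfl

/-- The subgroups `E` with `V (n - 2) ≤ E ≤ C`, `E ≰ V 1`. -/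
structure Side (h : MC S p n W) (E : Subgroup Ω) (x : Ω) : Prop where
  le : E ≤ C h
  mem : x ∈ E
  notMem : x ∉ V W 1
  z2 : V W (n - 2) ≤ E

theorem C_le (h : MC S p n W) : C h ≤ S := fun _ hx => ((mem_C h).1 hx).1

theorem Side.leS {h : MC S p n W} {E : Subgroup Ω} {x : Ω} (s : Side h E x) : E ≤ S :=
  s.le.trans (C_le h)

theorem Side.xS {h : MC S p n W} {E : Subgroup Ω} {x : Ω} (s : Side h E x) : x ∈ S := s.leS s.mem

/-- descending chain of elements -/
theorem Side.elts [Finite S] {h : MC S p n W} [hp : Fact p.Prime] (hp3 : 3 ≤ p) {E : Subgroup Ω} {x : Ω}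
    (s : Side h E x) {j : ℕ} (hj1 : 1 ≤ j) {w : Ω} (hwE : w ∈ E) (hw : w ∈ V W j) (hw' : w ∉ V W (j + 1))
    (i : ℕ) (hij : j + i ≤ n - 2) : ∃ v ∈ E, v ∈ V W (j + i) ∧ v ∉ V W (j + i + 1) ∧
      (1 ≤ i → ∃ u ∈ E, v = ⁅u, x⁆) := by
  have h4 := h.four_le
  induction i with
  | zero => exact ⟨w, hwE, hw, hw', fun h => by omega⟩
  | succ i ih =>
    obtain ⟨v, hvE, hv, hv', -⟩ := ih (by omega)
    refine ⟨⁅v, x⁆, ?_, V_comm_S h hv s.xS, ?_, fun _ => ⟨v, hvE, rfl⟩⟩
    · rw [commutatorElement_def]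
      exact E.mul_mem (E.mul_mem (E.mul_mem hvE s.mem) (E.inv_mem hvE)) (E.inv_mem s.mem)
    · exact comm_notMem h hp3 s.xS s.notMem (i := j + i) (by omega) (by omega) hv hv'

/-- `E ∩ V 1 = V j`. -/
theorem Side.exists_inf [Finite S] {h : MC S p n W} [hp : Fact p.Prime] (hp3 : 3 ≤ p)
    (hne : ¬ V W 1 ≤ C h) {E : Subgroup Ω} {x : Ω} (s : Side h E x) :
    ∃ j, 2 ≤ j ∧ j ≤ n - 2 ∧ E ⊓ V W 1 = V W j := by
  have h4 := h.four_le
  classical
  -- the largest `j` with `E ⊓ V 1 ≤ V j`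
  have hle2 : E ⊓ V W 1 ≤ V W 2 := fun y hy => inf_eq h hne hy.2 (s.le hy.1)
  obtain ⟨c, hc, hc'⟩ := V_ne h (i := n - 2) (by omega)
  have hbound : ∀ j, E ⊓ V W 1 ≤ V W j → j ≤ n - 2 := by
    intro j hj
    by_contra hcon
    push Not at hcon
    apply hc'
    have h1 := hj ⟨s.z2 hc, V_anti h (by omega) hc⟩
    exact V_anti h (by omega) h1
  obtain ⟨j, hj, hjmax⟩ : ∃ j, E ⊓ V W 1 ≤ V W j ∧ ∀ i, E ⊓ V W 1 ≤ V W i → i ≤ j := by
    refine ⟨Nat.findGreatest (fun j => E ⊓ V W 1 ≤ V W j) (n - 2),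
      Nat.findGreatest_spec (P := fun j => E ⊓ V W 1 ≤ V W j) (m := 2) (by omega) hle2, fun i hi => ?_⟩
    exact Nat.le_findGreatest (hbound i hi) hi
  have hj2 := hjmax 2 hle2
  have hjn := hbound j hj
  refine ⟨j, hj2, hjn, le_antisymm hj ?_⟩
  obtain ⟨w, hw, hw'⟩ : ∃ w ∈ E ⊓ V W 1, w ∉ V W (j + 1) := by
    by_contra hcon
    push Not at hcon
    have := hjmax (j + 1) hcon
    omega
  have key : ∀ m i, j ≤ i → i + m = n - 2 → V W i ≤ E := by
    intro m
    induction m with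
    | zero =>
      intro i _ him
      rw [show i = n - 2 by omega]
      exact s.z2
    | succ m ih =>
      intro i hji him v hv
      obtain ⟨u, huE, hu, hu', -⟩ := s.elts hp3 (j := j) (by omega) hw.1 (hj hw) hw' (i - j) (by omega)
      rw [show j + (i - j) = i by omega] at hu hu'
      obtain ⟨k, hk⟩ := V_gen h (by omega) hu hu' hv
      have h1 := ih (i + 1) (by omega) (by omega) hk
      have h2 := E.mul_mem (E.zpow_mem huE k) h1
      rwa [mul_inv_cancel_left] at h2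
  exact le_inf (key (n - 2 - j) j le_rfl (by omega)) (V_anti h (by omega))

theorem gen_zero (h : MC S p n W) [hp : Fact p.Prime] {x g : Ω} (hxS : x ∈ S) (hx : x ∉ V W 1)
    (hg : g ∈ S) : ∃ k : ℤ, (x ^ k)⁻¹ * g ∈ V W 1 := by
  have h4 := h.four_le
  have := V_gen h (i := 0) (by omega) (w := x) (v := g) (by rw [V_zero h]; exact hxS) hx
    (by rw [V_zero h]; exact hg)
  exact this

/-- `j = 2` means `E = C`. -/
theorem Side.eq_C [Finite S] {h : MC S p n W} [hp : Fact p.Prime]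
    (hne : ¬ V W 1 ≤ C h) {E : Subgroup Ω} {x : Ω} (s : Side h E x) (hj : E ⊓ V W 1 = V W 2) : E = C h := by
  apply le_antisymm s.le
  intro c hc
  obtain ⟨k, hk⟩ := gen_zero h s.xS s.notMem (C_le h hc)
  have h1 : (x ^ k)⁻¹ * c ∈ C h :=
    (C h).mul_mem ((C h).inv_mem ((C h).zpow_mem (s.le s.mem) k)) hc
  have h2 := inf_eq h hne hk h1
  rw [← hj] at h2
  have h3 := E.mul_mem (E.zpow_mem s.mem k) h2.1
  rwa [mul_inv_cancel_left] at h3

/-- elements of `E` outside `V 1` -/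
theorem Side.other {h : MC S p n W} {E : Subgroup Ω} {x : Ω} (s : Side h E x) {y : Ω} (hy : y ∈ E)
    (hy' : y ∉ V W 1) : Side h E y := ⟨s.le, hy, hy', s.z2⟩

/-- The centre of `E`, `j ≤ n - 3`. -/
theorem Side.mem_center [Finite S] {h : MC S p n W} [hp : Fact p.Prime] (hp3 : 3 ≤ p)
    {E : Subgroup Ω} {x : Ω} (s : Side h E x) {j : ℕ} (hj : E ⊓ V W 1 = V W j) (hj1 : 1 ≤ j)
    (hj3 : j + 3 ≤ n) (e : E) : e ∈ Subgroup.center E ↔ (e : Ω) ∈ V W (n - 2) := by
  have h4 := h.four_le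
  rw [Subgroup.mem_center_iff]
  constructor
  · intro he
    have hcomm : ∀ f ∈ E, ⁅f, (e : Ω)⁆ = 1 := fun f hf => by
      rw [commutatorElement_eq_one_iff_mul_comm]
      exact congrArg Subtype.val (he ⟨f, hf⟩)
    have he1 : (e : Ω) ∈ V W 1 := by
      by_contra hcon
      obtain ⟨w, hw, hw'⟩ := V_ne h (i := j) (by omega)
      have hwE : w ∈ E := by rw [← hj] at hw; exact hw.1
      apply comm_notMem h hp3 (s.leS e.2) hcon hj1 hj3 hw hw'
      rw [hcomm w hwE]
      exact Subgroup.one_mem _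
    have h1 := mem_of_comm h hp3 s.xS s.notMem (k := n - 1) (by omega) he1 (by
      have h2 : ⁅(e : Ω), x⁆ = 1 := by
        rw [← commutatorElement_inv, hcomm x s.mem, inv_one]
      rw [h2]
      exact Subgroup.one_mem _)
    rwa [show n - 1 - 1 = n - 2 by omega] at h1
  · intro he f
    exact Subtype.ext (((mem_C h).1 (s.le f.2)).2 e he).symm

/-- **Flags**: if `V j` is invariant, `j ≤ n - 4`, `E` is not essential. -/
theorem Side.flag [Finite S] (hS : IsPGroup p S) {h : MC S p n W} [hp : Fact p.Prime] (hp3 : 3 ≤ p)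
    {F : FusionSystem S} {E : Subgroup Ω} (hE : F.IsEssential p E) {x : Ω} (s : Side h E x) {j : ℕ}
    (hj : E ⊓ V W 1 = V W j) (hj2 : 2 ≤ j) (hj3 : j + 3 ≤ n)
    (hinv : ∀ α ∈ F.autGroup E, ∀ e : E, (e : Ω) ∈ V W j → ((α e : E) : Ω) ∈ V W j) : False := by
  have h4 := h.four_le
  have hfE : Finite E := finite_of_le s.leS
  have hEp : IsPGroup p E := hS.to_le s.leS
  have hVjE : V W j ≤ E := by rw [← hj]; exact inf_le_left
  -- the chain
  let D : Subgroup E := commutator E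
  let B : Subgroup E := (V W j).subgroupOf E
  have hDchar : D.Characteristic := inferInstance
  have hZchar : (Subgroup.center E).Characteristic := inferInstance
  -- `D ⊔ Z = D ⊔ V (n - 1)`
  obtain ⟨w, hw, hw'⟩ := V_ne h (i := j) (by omega)
  have hwE : w ∈ E := hVjE hw
  have hDmem : ∀ u (hu : u ∈ E), (⟨⁅u, x⁆, by
      rw [commutatorElement_def]
      exact E.mul_mem (E.mul_mem (E.mul_mem hu s.mem) (E.inv_mem hu)) (E.inv_mem s.mem)⟩ : E) ∈ D := by
    intro u hu
    have h1 : ⁅(⟨u, hu⟩ : E), (⟨x, s.mem⟩ : E)⁆ ∈ D := by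
      show _ ∈ commutator E
      rw [_root_.commutator_def]
      exact Subgroup.commutator_mem_commutator (Subgroup.mem_top _) (Subgroup.mem_top _)
    exact h1
  let Zc : Subgroup E := (V W (n - 1)).subgroupOf E
  have hZcn : Zc.Normal := by
    refine ⟨fun z hz g => ?_⟩
    rw [Subgroup.mem_subgroupOf] at hz ⊢
    exact V_conj h hz (s.leS g.2)
  have hV2D : ∀ e : E, (e : Ω) ∈ V W (n - 2) → e ∈ D ⊔ Zc := by
    intro e he
    obtain ⟨v, hvE, hv, hv', hvc⟩ := s.elts hp3 (j := j) (by omega) hwE hw hw' (n - 2 - j) (by omega)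
    obtain ⟨u, huE, rfl⟩ := hvc (by omega)
    rw [show j + (n - 2 - j) = n - 2 by omega] at hv hv'
    obtain ⟨k, hk⟩ := V_gen h (by omega) hv hv' he
    rw [show n - 2 + 1 = n - 1 by omega] at hk
    have h1 : e = (⟨⁅u, x⁆, hvE⟩ : E) ^ k * ((⟨⁅u, x⁆, hvE⟩ : E) ^ k)⁻¹ * e := by
      rw [mul_inv_cancel, one_mul]
    rw [h1, mul_assoc]
    refine Subgroup.mul_mem _ (Subgroup.zpow_mem _ (Subgroup.mem_sup_left (hDmem u huE)) k)
      (Subgroup.mem_sup_right ?_)
    rw [Subgroup.mem_subgroupOf]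
    exact hk
  have hVD : ∀ m i, j + 1 ≤ i → i + m = n - 2 → ∀ e : E, (e : Ω) ∈ V W i → e ∈ D ⊔ Zc := by
    intro m
    induction m with
    | zero =>
      intro i _ him
      rw [show i = n - 2 by omega]
      exact hV2D
    | succ m ih =>
      intro i hji him e he
      obtain ⟨v, hvE, hv, hv', hvc⟩ := s.elts hp3 (j := j) (by omega) hwE hw hw' (i - j) (by omega)
      obtain ⟨u, huE, rfl⟩ := hvc (by omega)
      rw [show j + (i - j) = i by omega] at hv hv'
      obtain ⟨k, hk⟩ := V_gen h (by omega) hv hv' he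
      have h2 := ih (i + 1) (by omega) (by omega) ((((⟨⁅u, x⁆, hvE⟩ : E) ^ k)⁻¹) * e) hk
      have h1 : e = (⟨⁅u, x⁆, hvE⟩ : E) ^ k * ((((⟨⁅u, x⁆, hvE⟩ : E) ^ k)⁻¹) * e) := by
        rw [mul_inv_cancel_left]
      rw [h1]
      exact Subgroup.mul_mem _ (Subgroup.zpow_mem _ (Subgroup.mem_sup_left (hDmem u huE)) k) h2
  have hDB : D ≤ B := by
    intro e he
    rw [Subgroup.mem_subgroupOf, ← hj]
    refine ⟨e.2, V_anti h (i := 1) (j := 2) (by omega) ?_⟩
    have h1 : D ≤ (V W 2).subgroupOf E := by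
      show commutator E ≤ _
      rw [_root_.commutator_def, Subgroup.commutator_le]
      intro a _ b _
      rw [Subgroup.mem_subgroupOf]
      have h2 : (⁅(⟨a, s.leS a.2⟩ : S), (⟨b, s.leS b.2⟩ : S)⁆ : S) ∈ W 2 := by
        rw [← h.comm_top]
        exact Subgroup.commutator_mem_commutator (Subgroup.mem_top _) (Subgroup.mem_top _)
      exact mem_V.2 ⟨_, h2⟩
    exact h1 he
  have hZcB : Zc ≤ B := fun e he => V_anti h (by omega) he
  have hZZc : D ⊔ Subgroup.center E = D ⊔ Zc := by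
    apply le_antisymm
    · refine sup_le le_sup_left (fun e he => ?_)
      exact hV2D e ((s.mem_center hp3 hj (by omega) hj3 e).1 he)
    · refine sup_le le_sup_left (fun e he => ?_)
      refine Subgroup.mem_sup_right ((s.mem_center hp3 hj (by omega) hj3 e).2 ?_)
      exact V_anti h (by omega) he
  -- the chain
  let c : ℕ → Subgroup E := fun i => match i with
    | 0 => D
    | 1 => D ⊔ Subgroup.center E
    | 2 => B
    | _ => ⊤
  refine Cfsg.Agent.H767.EssFrat.not_flag_of_isEssential hS hE c 3 ?_ ?_ rfl ?_ ?_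
  · intro i α hα e he
    rcases i with _ | _ | _ | k
    · exact Subgroup.characteristic_iff_map_le.1 hDchar α ⟨e, he, rfl⟩
    · have h1 : (D ⊔ Subgroup.center E).map (α : MulAut E).toMonoidHom ≤ D ⊔ Subgroup.center E := by
        rw [Subgroup.map_sup]
        exact sup_le_sup (Subgroup.characteristic_iff_map_le.1 hDchar α)
          (Subgroup.characteristic_iff_map_le.1 hZchar α)
      exact h1 ⟨e, he, rfl⟩
    · exact hinv α hα e he
    · exact Subgroup.mem_top _
  · exact Cfsg.Agent.Lib.FrattiniPGroup.commutator_le_frattini hEp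
  · intro i hi
    have hi' : i = 0 ∨ i = 1 ∨ i = 2 := by omega
    rcases hi' with rfl | rfl | rfl
    · exact le_sup_left
    · show D ⊔ Subgroup.center E ≤ B
      rw [hZZc]
      exact sup_le hDB hZcB
    · exact le_top
  · intro i hi
    have hi' : i = 0 ∨ i = 1 ∨ i = 2 := by omega
    rcases hi' with rfl | rfl | rfl
    · show D.relIndex (D ⊔ Subgroup.center E) ∣ p
      rw [hZZc, sup_comm, Subgroup.relIndex_sup_right]
      refine (Subgroup.relIndex_dvd_card D Zc).trans ?_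
      have h1 : Nat.card Zc = p := by
        rw [Nat.card_congr (Subgroup.subgroupOfEquivOfLe (H := V W (n - 1)) (K := E)
          ((V_anti h (by omega)).trans s.z2)).toEquiv]
        have := V_card h 1 (by omega)
        rwa [pow_one] at this
      rw [h1]
    · show (D ⊔ Subgroup.center E).relIndex B ∣ p
      rw [hZZc]
      have h1 : (V W (j + 1)).subgroupOf E ≤ D ⊔ Zc := by
        intro e he
        rcases Nat.lt_or_ge (n - 2) (j + 1) with h5 | h5
        · omega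
        · exact hVD (n - 2 - (j + 1)) (j + 1) le_rfl (by omega) e he
      refine (Subgroup.relIndex_dvd_of_le_left B h1).trans ?_
      have h2 : ((V W (j + 1)).subgroupOf E).relIndex B = (V W (j + 1)).relIndex (V W j) :=
        Subgroup.relIndex_subgroupOf hVjE
      rw [h2]
      have h3 : (V W (j + 1)).relIndex (V W j) = (W (j + 1)).relIndex (W j) := by
        show ((W (j + 1)).map S.subtype).relIndex ((W j).map S.subtype) = _
        rw [Subgroup.relIndex_map_map_of_injective _ _ S.subtype_injective]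
      rw [h3, h.relIndex j (by omega)]
    · show B.relIndex ⊤ ∣ p
      rw [Subgroup.relIndex_top_right]
      have h1 : B.index = (W 1).relIndex (E.subgroupOf S) := by
        have h2 : B = (V W 1).subgroupOf E := by
          ext e
          rw [Subgroup.mem_subgroupOf, Subgroup.mem_subgroupOf, ← hj]
          exact ⟨fun hh => hh.2, fun hh => ⟨e.2, hh⟩⟩
        rw [h2]
        show (V W 1).relIndex E = _
        have h3 : E = (E.subgroupOf S).map S.subtype := by
          rw [Subgroup.subgroupOf_map_subtype, inf_eq_left.2 s.leS]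
        have h5 := Subgroup.relIndex_map_map_of_injective (W 1) (E.subgroupOf S) S.subtype_injective
        rw [← h3] at h5
        exact h5
      have h1n := h.normal 1
      rw [h1]
      refine (Subgroup.relIndex_dvd_index_of_normal _ _).trans ?_
      rw [h.W1_index]

end Cfsg.Agent.H793.ExcA
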