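import Cfsg.Agent.H793.ExcA

/-!
# Exceptional groups of maximal class: the flags (helper793)

* `Side.not_small` : no essential subgroup `⟨x⟩ V j` of `C` with `3 ≤ j ≤ n - 4`;
* `not_essential_C` : `C` is not essential when `n ≥ 7`;
* `ext_of_class` : extension of morphisms of subgroups of a class to `S`;
* `contraC` : weights.
-/

set_option autoImplicit false

namespace Cfsg.Agent.H793.ExcA

open Cfsg Cfsg.FusionSystem Cfsg.Agent.H802 Cfsg.Agent.H467.MaxClass
open Cfsg.Agent.H797.MaxOmega Cfsg.Agent.H797.MaxParity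
open scoped commutatorElement

universe u

/-- invariance of subsets defined by commutators -/
theorem inv_step {E : Type*} [Group E] (α : MulAut E) {A D B : E → Prop} (hA : ∀ e, A e ↔ A (α e))
    (hD : ∀ e, D e ↔ D (α e)) (hB : ∀ e, B e ↔ ∀ f, D f → A ⁅f, e⁆) (e : E) : B e ↔ B (α e) := by
  rw [hB, hB]
  constructor
  · intro h1 f hf
    obtain ⟨f, rfl⟩ := α.surjective f
    rw [← map_commutatorElement α, ← hA]
    exact h1 f ((hD f).2 hf)
  · intro h1 f hf
    rw [hA, map_commutatorElement α]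
    exact h1 _ ((hD f).1 hf)

variable {Ω : Type u} [Group Ω] {S : Subgroup Ω} {p n : ℕ} {W : ℕ → Subgroup S}

theorem Side.inv_z2 [Finite S] {h : MC S p n W} [hp : Fact p.Prime] (hp3 : 3 ≤ p)
    {E : Subgroup Ω} {x : Ω} (s : Side h E x) {j : ℕ} (hj : E ⊓ V W 1 = V W j) (hj1 : 1 ≤ j)
    (hj3 : j + 3 ≤ n) (α : MulAut E) (e : E) :
    ((e : E) : Ω) ∈ V W (n - 2) ↔ ((α e : E) : Ω) ∈ V W (n - 2) := by
  rw [← s.mem_center hp3 hj hj1 hj3 e, ← s.mem_center hp3 hj hj1 hj3 (α e), Subgroup.mem_center_iff,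
    Subgroup.mem_center_iff]
  constructor
  · intro h1 f
    obtain ⟨f, rfl⟩ := α.surjective f
    rw [← map_mul, ← map_mul, h1 f]
  · intro h1 f
    apply α.injective
    rw [map_mul, map_mul, h1]

/-- elements of `V k`, `k ≤ n - 3`, by commutators modulo `V (k + 1)` -/
theorem Side.mem_V_iff [Finite S] {h : MC S p n W} [hp : Fact p.Prime] (hp3 : 3 ≤ p)
    {E : Subgroup Ω} {x : Ω} (s : Side h E x) {j : ℕ} (hj : E ⊓ V W 1 = V W j) (hj1 : 1 ≤ j)
    {k : ℕ} (hk : k + 3 ≤ n) (hjk : j + 1 ≤ k) (e : E) :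
    ((e : E) : Ω) ∈ V W k ↔ ∀ f : E, ((⁅f, e⁆ : E) : Ω) ∈ V W (k + 1) := by
  have h4 := h.four_le
  constructor
  · intro he f
    have h1 := V_comm_S' h he (s.leS f.2)
    exact h1
  · intro he
    have he1 : (e : Ω) ∈ V W 1 := by
      by_contra hcon
      obtain ⟨w, hw, hw'⟩ := V_ne h (i := k - 1) (by omega)
      have hwE : w ∈ E := by
        have h1 : w ∈ E ⊓ V W 1 := by rw [hj]; exact V_anti h (by omega) hw
        exact h1.1
      refine comm_notMem h hp3 (s.leS e.2) hcon (i := k - 1) (by omega) (by omega) hw hw' ?_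
      rw [show k - 1 + 2 = k + 1 by omega]
      exact he ⟨w, hwE⟩
    have h1 := mem_of_comm h hp3 s.xS s.notMem (k := k + 1) (by omega) he1 (by
      have h2 := (V W (k + 1)).inv_mem (he ⟨x, s.mem⟩)
      have h3 : (((⁅(⟨x, s.mem⟩ : E), e⁆ : E) : Ω))⁻¹ = ⁅(e : Ω), x⁆ := commutatorElement_inv _ _
      rwa [h3] at h2)
    rwa [show k + 1 - 1 = k by omega] at h1

/-- no essential `⟨x⟩ V j` with `3 ≤ j ≤ n - 4` -/
theorem Side.not_small [Finite S] (hS : IsPGroup p S) {h : MC S p n W} [hp : Fact p.Prime] (hp3 : 3 ≤ p)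
    {F : FusionSystem S} {E : Subgroup Ω} (hE : F.IsEssential p E) {x : Ω} (s : Side h E x) {j : ℕ}
    (hj : E ⊓ V W 1 = V W j) (hj2 : 3 ≤ j) (hj3 : j + 4 ≤ n) : False := by
  have h4 := h.four_le
  refine s.flag hS hp3 hE hj (by omega) (by omega) (fun α _ e he => ?_)
  have i2 := s.inv_z2 hp3 hj (by omega) (by omega) α
  have i3 := inv_step α (A := fun e : E => (e : Ω) ∈ V W (n - 2)) (D := fun _ => True)
    (B := fun e : E => (e : Ω) ∈ V W (n - 3)) i2 (fun _ => Iff.rfl) (fun e => by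
      rw [s.mem_V_iff hp3 hj (by omega) (k := n - 3) (by omega) (by omega) e,
        show n - 3 + 1 = n - 2 by omega]
      exact ⟨fun h f _ => h f, fun h f => h f trivial⟩)
  have i4 := inv_step α (A := fun e : E => e = 1) (D := fun e : E => (e : Ω) ∈ V W (n - 3))
    (B := fun e : E => (e : Ω) ∈ V W j) (fun e => by
      constructor
      · rintro rfl; exact map_one α
      · intro h1; exact α.injective (by rw [h1, map_one])) i3 (fun e => by
      constructor
      · intro he f hf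
        have h1 := V_comm h hf he
        rw [V_bot h (by omega), Subgroup.mem_bot] at h1
        exact Subtype.ext h1
      · intro he
        rw [← hj]
        refine ⟨e.2, ?_⟩
        by_contra hcon
        obtain ⟨w, hw, hw'⟩ := V_ne h (i := n - 3) (by omega)
        have hwE : w ∈ E := by
          have h1 : w ∈ E ⊓ V W 1 := by rw [hj]; exact V_anti h (by omega) hw
          exact h1.1
        refine comm_notMem h hp3 (s.leS e.2) hcon (i := n - 3) (by omega) (by omega) hw hw' ?_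
        have h1 := congrArg Subtype.val (he ⟨w, hwE⟩ hw)
        have h2 : ⁅w, (e : Ω)⁆ = 1 := h1
        rw [h2]
        exact Subgroup.one_mem _)
  exact (i4 e).1 he

/-- `C` is not essential when `n ≥ 7` -/
theorem not_essential_C [Finite S] (hS : IsPGroup p S) {h : MC S p n W} [hp : Fact p.Prime] (hp3 : 3 ≤ p)
    (hne : ¬ V W 1 ≤ C h) {F : FusionSystem S} (hE : F.IsEssential p (C h)) (hn : 7 ≤ n) : False := by
  have h4 := h.four_le
  -- an element of `C` outside `V 1`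
  have hV2 : V W 2 ≤ C h := fun v hv => C_normal_or h v hv
  obtain ⟨x, hx, hx1⟩ : ∃ x ∈ C h, x ∉ V W 1 := by
    by_contra hcon
    push Not at hcon
    have hle : C h ≤ V W 1 := hcon
    have h1 : h.Ksub (n - 2) ≤ W 1 := by
      intro y hy
      obtain ⟨_, h2⟩ := mem_V.1 (hle ⟨y, hy, rfl⟩)
      exact h2
    have h5 : h.Ksub (n - 2) = W 1 := by
      rcases (Nat.dvd_prime hp.out).1 (Ksub_index_dvd h) with h3 | h3
      · exact absurd (Subgroup.index_eq_one.1 h3) (h.Ksub_ne_top' (by omega) (by omega))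
      · have h5 := Subgroup.relIndex_mul_index h1
        rw [h3, h.W1_index] at h5
        have h6 : (h.Ksub (n - 2)).relIndex (W 1) = 1 := by
          apply Nat.eq_of_mul_eq_mul_right hp.out.pos
          rw [h5, one_mul]
        exact le_antisymm h1 (Subgroup.relIndex_eq_one.1 h6)
    apply hne
    rintro _ ⟨y, hy, rfl⟩
    refine ⟨y, ?_, rfl⟩
    rw [h5]
    exact hy
  have s : Side h (C h) x := ⟨le_rfl, hx, hx1, (V_anti h (by omega)).trans hV2⟩
  have hj : C h ⊓ V W 1 = V W 2 := by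
    apply le_antisymm
    · intro y hy
      exact inf_eq h hne hy.2 hy.1
    · exact le_inf hV2 (V_anti h (by omega))
  refine s.flag hS hp3 hE hj (by omega) (by omega) (fun α _ e he => ?_)
  have i2 := s.inv_z2 hp3 hj (by omega) (by omega) α
  have i3 := inv_step α (A := fun e : C h => (e : Ω) ∈ V W (n - 2)) (D := fun _ => True)
    (B := fun e : C h => (e : Ω) ∈ V W (n - 3)) i2 (fun _ => Iff.rfl) (fun e => by
      rw [s.mem_V_iff hp3 hj (by omega) (k := n - 3) (by omega) (by omega) e,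
        show n - 3 + 1 = n - 2 by omega]
      exact ⟨fun h f _ => h f, fun h f => h f trivial⟩)
  have i4 := inv_step α (A := fun e : C h => (e : Ω) ∈ V W (n - 3)) (D := fun _ => True)
    (B := fun e : C h => (e : Ω) ∈ V W (n - 4)) i3 (fun _ => Iff.rfl) (fun e => by
      rw [s.mem_V_iff hp3 hj (by omega) (k := n - 4) (by omega) (by omega) e,
        show n - 4 + 1 = n - 3 by omega]
      exact ⟨fun h f _ => h f, fun h f => h f trivial⟩)
  have i5 := inv_step α (A := fun e : C h => (e : Ω) ∈ V W (n - 2))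
    (D := fun e : C h => (e : Ω) ∈ V W (n - 4))
    (B := fun e : C h => (e : Ω) ∈ V W 2) i2 i4 (fun e => by
      constructor
      · intro he f hf
        have h1 := V_deg h hp3 (i := n - 4) (j := 2) (by omega) (by omega) (by omega) hf he
        exact V_anti h (by omega) h1
      · intro he
        rw [← hj]
        refine ⟨e.2, ?_⟩
        by_contra hcon
        obtain ⟨w, hw, hw'⟩ := V_ne h (i := n - 4) (by omega)
        have hwE : w ∈ C h := by
          have h1 : w ∈ C h ⊓ V W 1 := by rw [hj]; exact V_anti h (by omega) hw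
          exact h1.1
        refine comm_notMem h hp3 (s.leS e.2) hcon (i := n - 4) (by omega) (by omega) hw hw' ?_
        rw [show n - 4 + 2 = n - 2 by omega]
        exact he ⟨w, hwE⟩ hw)
  exact (i5 e).1 he

/-- weights: the third contradiction -/
theorem contraC {P : Type u} [Group P] {W : ℕ → Subgroup P} [Finite P] (h : MC P p n W)
    [hp : Fact p.Prime] (hp3 : 3 ≤ p) (hn : 5 ≤ n)
    {σ : P →* P} (hσ : Function.Surjective σ) (hne : h.Ksub (n - 2) ≠ W 1)
    (h1 : Eig W σ (n - 1) 1) (h2 : Eig W σ (n - 2) 1) (h0 : Eig W σ 0 (-1)) : False := by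
  obtain ⟨k, hk⟩ := eig_exists h hσ (i := 1) (by omega)
  have hev := parity h hp3 hne
  have hodd : Odd (n - 3) := by
    obtain ⟨m, hm⟩ := hev
    exact ⟨m - 2, by omega⟩
  have e3 := eig_chain h hp3 hσ h0 hk (n - 3) (by omega)
  rw [show n - 3 + 1 = n - 2 by omega] at e3
  have e4 : (k : ZMod p) = -1 := by
    have := eig_unique h (i := n - 2) (by omega) e3 h2
    rw [Int.cast_mul, Int.cast_pow, Int.cast_neg, Int.cast_one, hodd.neg_one_pow] at this
    linear_combination -this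
  have e5 := eig_comm h hσ (i := n - 2) (by omega) (by omega) h2 (l := k) (eig_exc h hne hσ hk)
  rw [show n - 2 + 1 = n - 1 by omega] at e5
  have e6 := eig_unique h (i := n - 1) (by omega) e5 h1
  rw [one_mul, e4, Int.cast_one] at e6
  exact one_ne_neg_one hp3 e6.symm

/-- Morphisms extending to `S` as soon as source or image is in the class `𝒬`. -/
def clsSystem (F : FusionSystem S) (Q : Subgroup Ω → Prop)
    (h1 : ∀ A B : Subgroup Ω, Q A → A ≤ B → B ≤ S → Q B)
    (h2 : ∀ (P : Subgroup Ω) (φ : P →* Ω), φ ∈ F.Hom P →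
      (∃ α ∈ F.autGroup S, ∀ (x : P) (hx : (x : Ω) ∈ S), φ x = (α ⟨x, hx⟩ : S)) → (Q P ↔ Q φ.range)) :
    FusionSystem S where
  Hom P := {φ | φ ∈ F.Hom P ∧ ((Q P ∨ Q φ.range) →
    ∃ α ∈ F.autGroup S, ∀ (x : P) (hx : (x : Ω) ∈ S), φ x = (α ⟨x, hx⟩ : S))}
  le_of_mem h := F.le_of_mem h.1
  injective_of_mem h := F.injective_of_mem h.1
  conj_mem := by
    intro P g hP hg
    refine ⟨F.conj_mem hP hg, fun _ => ⟨MulAut.conj ⟨g, hg⟩, inn_le_autGroup F le_rfl ⟨_, rfl⟩,
      fun x hx => rfl⟩⟩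
  comp_mem := by
    rintro P R φ ψ ⟨hφ, hφ'⟩ ⟨hψ, hψ'⟩ h
    refine ⟨F.comp_mem hφ hψ h, ?_⟩
    have hRS : R ≤ S := (F.le_of_mem hψ).1
    have hle : φ.range ≤ R := by
      rintro _ ⟨x, rfl⟩
      exact h _
    have hkey : Q P ∨ Q φ.range → ∃ β ∈ F.autGroup S, ∀ (x : R) (hx : (x : Ω) ∈ S), ψ x = (β ⟨x, hx⟩ : S) := by
      intro hQ
      apply hψ'
      left
      refine h1 φ.range R ?_ hle hRS
      rcases hQ with hQ | hQ
      · exact (h2 P φ hφ (hφ' (Or.inl hQ))).1 hQ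
      · exact hQ
    have hfin : (Q P ∨ Q φ.range) → ∃ α ∈ F.autGroup S, ∀ (x : P) (hx : (x : Ω) ∈ S),
        (ψ.comp (φ.codRestrict R h)) x = (α ⟨x, hx⟩ : S) := by
      intro hQ
      obtain ⟨α, hα, hαe⟩ := hφ' hQ
      obtain ⟨β, hβ, hβe⟩ := hkey hQ
      refine ⟨β * α, (F.autGroup S).mul_mem hβ hα, fun x hx => ?_⟩
      show ψ ⟨φ x, h x⟩ = ((β (α ⟨x, hx⟩) : S) : Ω)
      rw [hβe ⟨φ x, h x⟩ (hom_apply_mem hφ x)]
      congr 2
      exact Subtype.ext (hαe x hx)
    rintro (hQ | hQ)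
    · exact hfin (Or.inl hQ)
    · have hψr : Q ψ.range := by
        refine h1 _ _ hQ ?_ ?_
        · rintro _ ⟨x, rfl⟩
          exact ⟨_, rfl⟩
        · rintro _ ⟨x, rfl⟩
          exact (F.le_of_mem hψ).2 x
      obtain ⟨β, hβ, hβe⟩ := hψ' (Or.inr hψr)
      refine hfin (Or.inr ?_)
      refine (h2 φ.range (ψ.comp (Subgroup.inclusion hle)) (restrict_mem hψ hle) ⟨β, hβ, fun x hx => ?_⟩).2 ?_
      · exact hβe ⟨x, hle x.2⟩ hx
      · have : (ψ.comp (Subgroup.inclusion hle)).range = (ψ.comp (φ.codRestrict R h)).range := by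
          ext z
          constructor
          · rintro ⟨⟨_, x, rfl⟩, rfl⟩
            exact ⟨x, rfl⟩
          · rintro ⟨x, rfl⟩
            exact ⟨⟨_, x, rfl⟩, rfl⟩
        rw [this]
        exact hQ
  inv_mem := by
    rintro P φ ⟨hφ, hφ'⟩
    obtain ⟨ψ, hψ, hψe⟩ := F.inv_mem hφ
    refine ⟨ψ, ⟨hψ, ?_⟩, hψe⟩
    have hr : ψ.range = P := by
      ext z
      constructor
      · rintro ⟨⟨_, y, rfl⟩, rfl⟩
        rw [hψe y]
        exact y.2
      · intro hz
        exact ⟨⟨_, ⟨z, hz⟩, rfl⟩, hψe ⟨z, hz⟩⟩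
    rw [hr, or_comm]
    intro hQ
    obtain ⟨α, hα, hαe⟩ := hφ' hQ
    refine ⟨α⁻¹, (F.autGroup S).inv_mem hα, ?_⟩
    rintro ⟨_, y, rfl⟩ hx
    rw [hψe y]
    have h1 : (⟨φ y, hx⟩ : S) = α ⟨y, hom_le hφ y.2⟩ := Subtype.ext (hαe y _)
    show (y : Ω) = ((α⁻¹ ⟨φ y, hx⟩ : S) : Ω)
    rw [h1, MulAut.inv_apply_self]

/-- If no essential subgroup is in the class, every morphism of a subgroup in the class extends to `S`. -/
theorem ext_of_class [Fact p.Prime] [Finite S] (hS : IsPGroup p S)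
    {F : FusionSystem S} (hF : F.IsSaturated p) (Q : Subgroup Ω → Prop)
    (h1 : ∀ A B : Subgroup Ω, Q A → A ≤ B → B ≤ S → Q B)
    (h2 : ∀ (P : Subgroup Ω) (φ : P →* Ω), φ ∈ F.Hom P →
      (∃ α ∈ F.autGroup S, ∀ (x : P) (hx : (x : Ω) ∈ S), φ x = (α ⟨x, hx⟩ : S)) → (Q P ↔ Q φ.range))
    (hno : ∀ E : Subgroup Ω, F.IsEssential p E → ¬ Q E)
    {P : Subgroup Ω} {φ : P →* Ω} (hφ : φ ∈ F.Hom P) (hP : Q P) :
    ∃ α ∈ F.autGroup S, ∀ (x : P) (hx : (x : Ω) ∈ S), φ x = (α ⟨x, hx⟩ : S) := by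
  have key := le_of_essential hS hF (clsSystem F Q h1 h2) ?_ ?_ P
  · exact (key hφ).2 (Or.inl hP)
  · intro α hα
    rw [mem_autGroup_iff _ le_rfl]
    exact ⟨(mem_autGroup_iff F le_rfl α).1 hα, fun _ => ⟨α, hα, fun x hx => rfl⟩⟩
  · intro R hR _ α hα
    have hle := Cfsg.Agent.H766.ess_le hR
    rw [mem_autGroup_iff _ hle]
    refine ⟨(mem_autGroup_iff F hle α).1 hα, ?_⟩
    have hr : (R.subtype.comp α.toMonoidHom).range = R := by
      ext z
      constructor
      · rintro ⟨x, rfl⟩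
        exact (α x).2
      · intro hz
        exact ⟨α.symm ⟨z, hz⟩, by simp⟩
    rintro (hQ | hQ)
    · exact absurd hQ (hno R hR)
    · have hQ' : Q (R.subtype.comp α.toMonoidHom).range := hQ
      rw [hr] at hQ'
      exact absurd hQ' (hno R hR)

end Cfsg.Agent.H793.ExcA
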