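import Cfsg.Agent.H793.ExcB
import Cfsg.Agent.H766.PearlTorus
import Cfsg.Agent.H467.MaxClassPower2
import Cfsg.Agent.H759.FusNormal

/-!
# Exceptional groups of maximal class: inversion on `E / Z(E)` (helper793)
-/

set_option autoImplicit false

namespace Cfsg.Agent.H793.ExcA

open Cfsg Cfsg.FusionSystem Cfsg.Agent.H802 Cfsg.Agent.H766 Cfsg.Agent.H467.MaxClass
open Cfsg.Agent.H797.MaxOmega Cfsg.Agent.H797.MaxParity
open Matrix (SpecialLinearGroup)
open scoped commutatorElement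

universe u

/-- The action of automorphisms on the quotient by a characteristic subgroup. -/
def quotHom {P : Type*} [Group P] (N : Subgroup P) [N.Normal] (hN : N.Characteristic) :
    MulAut P →* MulAut (P ⧸ N) where
  toFun a := QuotientGroup.congr N N a (by
    exact Subgroup.characteristic_iff_map_eq.1 hN a)
  map_one' := by
    apply MulEquiv.ext
    intro v
    obtain ⟨x, rfl⟩ := QuotientGroup.mk_surjective v
    rfl
  map_mul' a b := by
    apply MulEquiv.ext
    intro v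
    obtain ⟨x, rfl⟩ := QuotientGroup.mk_surjective v
    rfl

theorem quotHom_mk {P : Type*} [Group P] (N : Subgroup P) [N.Normal] (hN : N.Characteristic)
    (a : MulAut P) (x : P) : quotHom N hN a (x : P ⧸ N) = ((a x : P) : P ⧸ N) := rfl

theorem quotHom_eq_one_iff {P : Type*} [Group P] (N : Subgroup P) [N.Normal] (hN : N.Characteristic)
    (a : MulAut P) : quotHom N hN a = 1 ↔ ∀ x : P, x⁻¹ * a x ∈ N := by
  constructor
  · intro h x
    have h1 := DFunLike.congr_fun h (x : P ⧸ N)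
    rw [quotHom_mk] at h1
    exact QuotientGroup.eq.1 h1.symm
  · intro h
    apply MulEquiv.ext
    intro v
    obtain ⟨x, rfl⟩ := QuotientGroup.mk_surjective v
    rw [quotHom_mk]
    exact (QuotientGroup.eq.2 (h x)).symm

variable {Ω : Type u} [Group Ω] {S : Subgroup Ω} {p n : ℕ} {W : ℕ → Subgroup S}

/-- Elements of `Aut_F(E)` normalizing `Aut_S(E)` extend to `N_S(E)`. -/
theorem lift_normalizer [hp : Fact p.Prime] [Finite S] (hS : IsPGroup p S)
    {F : FusionSystem S} (hF : F.IsSaturated p) {E : Subgroup Ω} (hE : F.IsFullyNormalized E)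
    {φ : MulAut E} (hφ : φ ∈ F.autGroup E)
    (hn : ∀ β ∈ autInducedBy S E, φ * β * φ⁻¹ ∈ autInducedBy S E) :
    ∃ ψ ∈ F.Hom (normalizerIn S E), ∀ (x : E) (hx : (x : Ω) ∈ normalizerIn S E),
      ψ ⟨x, hx⟩ = (φ x : E) := by
  have hES : E ≤ S := hE.1
  have hφ' : E.subtype.comp φ.toMonoidHom ∈ F.Hom E := (mem_autGroup_iff F hES φ).1 hφ
  have hrange : (E.subtype.comp φ.toMonoidHom).range = E := by
    ext z
    constructor
    · rintro ⟨x, rfl⟩
      exact (φ x).2
    · intro hz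
      exact ⟨φ.symm ⟨z, hz⟩, by simp⟩
  have hext : extender S E (E.subtype.comp φ.toMonoidHom) = normalizerIn S E := by
    apply le_antisymm (extender_le_normalizerIn _ _ _)
    intro g hg
    rw [mem_extender_iff]
    refine ⟨hg.1, hg.2, ?_⟩
    obtain ⟨β, hβ⟩ := exists_conjAut hg.2
    obtain ⟨h, hh, hhe⟩ := (mem_autInducedBy_iff S E _).1
      (hn β ((mem_autInducedBy_iff S E β).2 ⟨g, hg.1, hβ⟩))
    refine ⟨h, hh, fun x hx => ?_⟩
    have h1 := hhe (φ x)
    rw [MulAut.mul_apply, MulAut.mul_apply, MulAut.inv_apply_self] at h1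
    have h2 : (⟨g * x * g⁻¹, hx⟩ : E) = β x := Subtype.ext (hβ x).symm
    show ((φ (⟨g * x * g⁻¹, hx⟩ : E) : E) : Ω) = h * ((φ x : E) : Ω) * h⁻¹
    rw [h2]
    exact h1
  obtain ⟨ψ, hψ, hψe⟩ := (isReceptive_of_isFullyNormalized hS hF hE).2 E _ hφ' hrange
  have hNle : normalizerIn S E ≤ extender S E (E.subtype.comp φ.toMonoidHom) := hext.ge
  refine ⟨ψ.comp (Subgroup.inclusion hNle), restrict_mem hψ hNle, fun x hx => ?_⟩
  exact hψe x x.2 (hNle hx)

/-- normalizer of `E` -/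
theorem Side.normalizer [Finite S] {h : MC S p n W} [hp : Fact p.Prime] (hp3 : 3 ≤ p)
    {E : Subgroup Ω} {x : Ω} (s : Side h E x) {j : ℕ} (hj : E ⊓ V W 1 = V W j)
    (hjn : j + 1 ≤ n) {g : Ω} (hg : g ∈ normalizerIn S E) : ∃ k : ℤ, (x ^ k)⁻¹ * g ∈ V W (j - 1) := by
  obtain ⟨k, hk⟩ := gen_zero h s.xS s.notMem hg.1
  refine ⟨k, mem_of_comm h hp3 s.xS s.notMem (k := j) (by omega) hk ?_⟩
  set w := (x ^ k)⁻¹ * g with hw
  have hwS : w ∈ S := V_le 1 hk
  have hwN : w ∈ Subgroup.normalizer (E : Set Ω) := by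
    refine Subgroup.mul_mem _ (Subgroup.inv_mem _ (Subgroup.zpow_mem _ ?_ k)) hg.2
    exact Subgroup.le_normalizer s.mem
  rw [← hj]
  refine ⟨?_, V_anti h (by omega) (V_comm_S h hk s.xS)⟩
  rw [commutatorElement_def]
  exact E.mul_mem ((Subgroup.mem_normalizer_iff.1 hwN x).1 s.mem) (E.inv_mem s.mem)

set_option maxHeartbeats 1000000 in
/-- **The inversion**: `E = ⟨x⟩ V (n - 3)` essential. -/
theorem Side.exists_neg [Finite S] (hS : IsPGroup p S) {h : MC S p n W} [hp : Fact p.Prime] (hp3 : 3 ≤ p)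
    {F : FusionSystem S} (hF : F.IsSaturated p)
    {E : Subgroup Ω} (hE : F.IsEssential p E) {x : Ω} (s : Side h E x)
    (hj : E ⊓ V W 1 = V W (n - 3)) (hn : 6 ≤ n) :
    ∃ α ∈ F.autGroup E, (∀ e : E, (e : Ω) ∈ V W (n - 2) → α e = e) ∧
      (∀ e : E, ((e * α e : E) : Ω) ∈ V W (n - 2)) ∧
      ∀ β ∈ autInducedBy S E, α * β * α⁻¹ ∈ autInducedBy S E := by
  have h4 := h.four_le
  have hfE : Finite E := finite_of_le s.leS
  have hEp : IsPGroup p E := hS.to_le s.leS
  have hpp := hp.out.pos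
  have hVE : V W (n - 3) ≤ E := by rw [← hj]; exact inf_le_left
  set Z : Subgroup E := Subgroup.center E with hZ
  have hZchar : Z.Characteristic := inferInstance
  have hZmem : ∀ e : E, e ∈ Z ↔ (e : Ω) ∈ V W (n - 2) := fun e => s.mem_center hp3 hj (by omega) (by omega) e
  have hZcoe : ∀ (α : MulAut E) (e : E), e ∈ Z ↔ α e ∈ Z := by
    intro α e
    rw [hZmem, hZmem]
    exact s.inv_z2 hp3 hj (by omega) (by omega) α e
  -- `Aut_S(E)` centralises `Z`
  have hSZ : ∀ β ∈ autInducedBy S E, ∀ e ∈ Z, β e = e := by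
    intro β hβ e he
    obtain ⟨g, hg, hge⟩ := (mem_autInducedBy_iff S E β).1 hβ
    have hgN : g ∈ normalizerIn S E := by
      refine ⟨hg, ?_⟩
      apply Cfsg.Agent.H797.MaxEss.mem_normalizer_of_le s.leS
      intro v hv
      rw [← hge ⟨v, hv⟩]
      exact (β ⟨v, hv⟩).2
    obtain ⟨k, hk⟩ := s.normalizer hp3 hj (by omega) hgN
    have hgC : g ∈ C h := by
      have h1 : (x ^ k)⁻¹ * g ∈ C h := C_normal_or h _ (V_anti h (by omega) hk)
      have h2 := (C h).mul_mem ((C h).zpow_mem (s.le s.mem) k) h1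
      rwa [mul_inv_cancel_left] at h2
    apply Subtype.ext
    rw [hge e, ← ((mem_C h).1 hgC).2 e ((hZmem e).1 he), mul_inv_cancel_right]
  -- the subgroup `A₁`
  let A₁ : Subgroup (F.autGroup E) :=
    { carrier := {α | ∀ e ∈ Z, (α : MulAut E) e = e}
      one_mem' := fun e _ => rfl
      mul_mem' := by
        intro a b ha hb e he
        show (a : MulAut E) ((b : MulAut E) e) = e
        rw [hb e he, ha e he]
      inv_mem' := by
        intro a ha e he
        show (a : MulAut E)⁻¹ e = e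
        rw [MulAut.inv_apply]
        exact (MulEquiv.symm_apply_eq _).2 (ha e he).symm }
  have hA₁n : A₁.Normal := by
    refine ⟨fun a ha g e he => ?_⟩
    show (g : MulAut E) ((a : MulAut E) ((g : MulAut E)⁻¹ e)) = e
    have h1 : (g : MulAut E)⁻¹ e ∈ Z := (hZcoe _ e).1 he
    have h2 : (a : MulAut E) ((g : MulAut E)⁻¹ e) = (g : MulAut E)⁻¹ e := ha _ h1
    rw [h2, MulAut.apply_inv_self]
  -- `p`-elements are in `A₁`
  obtain ⟨P, hP⟩ : ∃ P : Sylow p (F.autGroup E), (P : Subgroup (F.autGroup E)) =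
      (autInducedBy S E).subgroupOf (F.autGroup E) :=
    (isFullyAutomized_of_isFullyNormalized hS hF hE.2.1).2
  have hPA : (P : Subgroup (F.autGroup E)) ≤ A₁ := by
    intro a ha
    rw [hP, Subgroup.mem_subgroupOf] at ha
    exact hSZ _ ha
  have hpel : ∀ b ∈ F.autGroup E, ∀ l : ℕ, b ^ p ^ l = 1 → ∀ e ∈ Z, b e = e := by
    intro b hb l hl
    have hz : IsPGroup p (Subgroup.zpowers (⟨b, hb⟩ : F.autGroup E)) := by
      rintro ⟨g, hg⟩
      obtain ⟨m, rfl⟩ := (mem_powers_iff_mem_zpowers (x := (⟨b, hb⟩ : F.autGroup E))).2 hg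
      refine ⟨l, ?_⟩
      apply Subtype.ext
      apply Subtype.ext
      show (b ^ m) ^ p ^ l = 1
      rw [← pow_mul, mul_comm, pow_mul, hl, one_pow]
    obtain ⟨Q, hQ⟩ := hz.exists_le_sylow
    obtain ⟨g, hg⟩ := MulAction.exists_smul_eq (F.autGroup E) P Q
    have h1 : (⟨b, hb⟩ : F.autGroup E) ∈ (Q : Subgroup (F.autGroup E)) := hQ (Subgroup.mem_zpowers _)
    rw [← hg] at h1
    have h2 : (⟨b, hb⟩ : F.autGroup E) ∈ A₁ := by
      have h3 : ((g • P : Sylow p (F.autGroup E)) : Subgroup (F.autGroup E)) ≤ A₁ := by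
        rintro _ ⟨y, hy, rfl⟩
        exact hA₁n.conj_mem y (hPA hy) g
      exact h3 h1
    exact h2
  -- the action on `E / Z`
  have hZn : Z.Normal := inferInstance
  set π := quotHom Z hZchar with hπ
  -- the kernel
  let K₁ : Subgroup (F.autGroup E) :=
    { carrier := {α | (∀ e ∈ Z, (α : MulAut E) e = e) ∧ π (α : MulAut E) = 1}
      one_mem' := ⟨fun e _ => rfl, by
        show π ((1 : F.autGroup E) : MulAut E) = 1
        rw [Subgroup.coe_one, map_one]⟩
      mul_mem' := by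
        rintro a b ⟨ha, ha'⟩ ⟨hb, hb'⟩
        refine ⟨(A₁.mul_mem (x := a) (y := b) ha hb : _), ?_⟩
        show π ((a * b : F.autGroup E) : MulAut E) = 1
        rw [Subgroup.coe_mul, map_mul, ha', hb', one_mul]
      inv_mem' := by
        rintro a ⟨ha, ha'⟩
        refine ⟨(A₁.inv_mem (x := a) ha : _), ?_⟩
        show π ((a⁻¹ : F.autGroup E) : MulAut E) = 1
        rw [Subgroup.coe_inv, map_inv, ha', inv_one] }
  have hK₁n : K₁.Normal := by
    refine ⟨fun a ha g => ⟨(hA₁n.conj_mem a ha.1 g : _), ?_⟩⟩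
    show π ((g * a * g⁻¹ : F.autGroup E) : MulAut E) = 1
    rw [Subgroup.coe_mul, Subgroup.coe_mul, Subgroup.coe_inv, map_mul, map_mul, map_inv, ha.2]
    rw [mul_one, mul_inv_cancel]
  have hK₁p : IsPGroup p K₁ := by
    rintro ⟨a, ha1, ha2⟩
    obtain ⟨k, hk⟩ := Cfsg.Agent.H759.exists_pow_eq_one_of_chain hEp (a : MulAut E) 2
      (fun i => match i with
        | 0 => ⊤
        | 1 => Z
        | _ => ⊥) rfl rfl (by
          intro i hi e he
          rcases i with _ | _ | i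
          · exact Subgroup.mem_top _
          · exact (hZcoe _ e).1 he
          · have h1 : e = 1 := he
            show (a : MulAut E) e ∈ (⊥ : Subgroup E)
            rw [h1, map_one]
            exact Subgroup.one_mem _) (by
          intro i hi e he
          have hi' : i = 0 ∨ i = 1 := by omega
          rcases hi' with rfl | rfl
          · exact (quotHom_eq_one_iff Z hZchar (a : MulAut E)).1 ha2 e
          · show e⁻¹ * (a : MulAut E) e ∈ (⊥ : Subgroup E)
            rw [ha1 e he, inv_mul_cancel]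
            exact Subgroup.one_mem _)
    exact ⟨k, Subtype.ext (Subtype.ext hk)⟩
  have hK₁I : ∀ a : F.autGroup E, (∀ e ∈ Z, (a : MulAut E) e = e) → π (a : MulAut E) = 1 →
      (a : MulAut E) ∈ Inn E := fun a h1 h2 => ess_core hE K₁ hK₁p (⟨h1, h2⟩ : a ∈ K₁)
  -- two non-commuting elements
  obtain ⟨a, b, k, l, haS, hb, hak, hbl, hab⟩ := ess_exists_noncomm_bar hS hF hE
  have haF := autInducedBy_le_autGroup F s.leS haS
  have hπab : π a * π b ≠ π b * π a := by
    intro hcon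
    apply hab
    have h1 : a * b * a⁻¹ * b⁻¹ ∈ Inn E := by
      refine hK₁I (⟨a, haF⟩ * ⟨b, hb⟩ * ⟨a, haF⟩⁻¹ * ⟨b, hb⟩⁻¹) ?_ ?_
      · have h2 : (⟨a, haF⟩ * ⟨b, hb⟩ * ⟨a, haF⟩⁻¹ * ⟨b, hb⟩⁻¹ : F.autGroup E) ∈ A₁ := by
          have ha' : (⟨a, haF⟩ : F.autGroup E) ∈ A₁ := hpel a haF k hak
          have hb' : (⟨b, hb⟩ : F.autGroup E) ∈ A₁ := hpel b hb l hbl
          exact A₁.mul_mem (A₁.mul_mem (A₁.mul_mem ha' hb') (A₁.inv_mem ha')) (A₁.inv_mem hb')
        exact h2
      · show π (a * b * a⁻¹ * b⁻¹) = 1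
        rw [map_mul, map_mul, map_mul, map_inv, map_inv, hcon]
        group
    have h2 : barHom E (a * b * a⁻¹ * b⁻¹) = 1 := by
      rw [barHom_eq_one_iff]
      obtain ⟨g, hg⟩ := h1
      intro e
      rw [← hg]
      have h3 := Cfsg.Agent.Lib.FrattiniPGroup.commutator_le_frattini hEp
        (Subgroup.commutator_mem_commutator (Subgroup.mem_top e⁻¹) (Subgroup.mem_top g))
      rw [commutatorElement_def, inv_inv] at h3
      show e⁻¹ * (g * e * g⁻¹) ∈ _
      have h4 : e⁻¹ * (g * e * g⁻¹) = e⁻¹ * g * e * g⁻¹ := by group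
      rw [h4]
      exact h3
    rw [map_mul, map_mul, map_mul, map_inv, map_inv] at h2
    have h3 : barHom E a * barHom E b = barHom E a * barHom E b * (barHom E a)⁻¹ * (barHom E b)⁻¹ *
      (barHom E b * barHom E a) := by group
    rw [h3, h2, one_mul]
  -- `E / Z` is elementary abelian of order `p ^ 2`
  have hgenE : ∀ e : E, ∃ (k : ℤ) (v : E), (v : Ω) ∈ V W (n - 3) ∧ e = (⟨x, s.mem⟩ : E) ^ k * v := by
    intro e
    obtain ⟨k, hk⟩ := gen_zero h s.xS s.notMem (s.leS e.2)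
    have h1 : (x ^ k)⁻¹ * (e : Ω) ∈ E := E.mul_mem (E.inv_mem (E.zpow_mem s.mem k)) e.2
    refine ⟨k, ⟨_, h1⟩, ?_, ?_⟩
    · rw [← hj]
      exact ⟨h1, hk⟩
    · apply Subtype.ext
      show (e : Ω) = x ^ k * ((x ^ k)⁻¹ * e)
      rw [mul_inv_cancel_left]
  have hVZ : ∀ v : E, (v : Ω) ∈ V W (n - 3) → ∀ f : E, Commute (v : E ⧸ Z) (f : E ⧸ Z) := by
    intro v hv f
    rw [← commutatorElement_eq_one_iff_commute]
    have h1 : ((⁅v, f⁆ : E) : E ⧸ Z) = 1 := by
      rw [QuotientGroup.eq_one_iff, hZmem]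
      have h2 := V_comm_S h hv (s.leS f.2)
      rw [show n - 3 + 1 = n - 2 by omega] at h2
      exact h2
    rw [← h1]
    exact (map_commutatorElement (QuotientGroup.mk' Z) v f).symm
  have hcomm : ∀ u v : E ⧸ Z, u * v = v * u := by
    intro u v
    obtain ⟨e, rfl⟩ := QuotientGroup.mk_surjective u
    obtain ⟨f, rfl⟩ := QuotientGroup.mk_surjective v
    obtain ⟨k, v, hv, rfl⟩ := hgenE e
    obtain ⟨l, w, hw, rfl⟩ := hgenE f
    have c1 : Commute ((⟨x, s.mem⟩ : E) : E ⧸ Z) ((⟨x, s.mem⟩ : E) : E ⧸ Z) := Commute.refl _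
    have c2 := hVZ v hv ⟨x, s.mem⟩
    have c3 := hVZ w hw ⟨x, s.mem⟩
    have c4 := hVZ v hv w
    have : Commute (((⟨x, s.mem⟩ : E) : E ⧸ Z) ^ k * (v : E ⧸ Z)) (((⟨x, s.mem⟩ : E) : E ⧸ Z) ^ l * (w : E ⧸ Z)) :=
      Commute.mul_left (Commute.mul_right (c1.zpow_zpow k l) (c3.symm.zpow_left k))
        (Commute.mul_right (c2.zpow_right l) c4)
    exact this
  have hxp : x ^ p ∈ V W (n - 2) := by
    have h1 : x ^ p ∈ V W 1 := by
      have h2 := h.pow_index_mem (⟨x, s.xS⟩ : S)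
      exact mem_V.2 ⟨_, h2⟩
    have h2 := mem_of_comm h hp3 s.xS s.notMem (k := n - 1) (by omega) h1 (by
      have h3 : ⁅x ^ p, x⁆ = 1 := by
        rw [commutatorElement_eq_one_iff_commute]
        exact Commute.pow_self x p
      rw [h3]
      exact Subgroup.one_mem _)
    rwa [show n - 1 - 1 = n - 2 by omega] at h2
  have hexp : ∀ v : E ⧸ Z, v ^ p = 1 := by
    intro v
    obtain ⟨e, rfl⟩ := QuotientGroup.mk_surjective v
    obtain ⟨k, v, hv, rfl⟩ := hgenE e
    have c2 : Commute (((⟨x, s.mem⟩ : E) : E ⧸ Z) ^ k) (v : E ⧸ Z) := (hVZ v hv ⟨x, s.mem⟩).symm.zpow_left k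
    have e1 : ((((⟨x, s.mem⟩ : E) ^ k * v : E)) : E ⧸ Z) = ((⟨x, s.mem⟩ : E) : E ⧸ Z) ^ k * (v : E ⧸ Z) := rfl
    rw [e1, c2.mul_pow, ← zpow_natCast, ← zpow_mul, mul_comm k, zpow_mul, zpow_natCast]
    have e2 : ((⟨x, s.mem⟩ : E) : E ⧸ Z) ^ p = 1 := by
      have : (((⟨x, s.mem⟩ : E) ^ p : E) : E ⧸ Z) = 1 := by
        rw [QuotientGroup.eq_one_iff, hZmem]
        exact hxp
      exact this
    have e3 : (v : E ⧸ Z) ^ p = 1 := by
      have : ((v ^ p : E) : E ⧸ Z) = 1 := by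
        rw [QuotientGroup.eq_one_iff, hZmem]
        obtain ⟨hvS, hv1⟩ := mem_V.1 hv
        have h2 := h.pow_p_mem hv1
        rw [show n - 3 + 1 = n - 2 by omega] at h2
        exact mem_V.2 ⟨_, h2⟩
      exact this
    rw [e2, one_zpow, one_mul, e3]
  have hcardZ : Nat.card Z = p ^ 2 := by
    have h1 : Z = (V W (n - 2)).subgroupOf E := by
      ext e
      rw [hZmem, Subgroup.mem_subgroupOf]
    rw [h1, Nat.card_congr (Subgroup.subgroupOfEquivOfLe s.z2).toEquiv]
    exact V_card h 2 (by omega)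
  have hcardE : Nat.card E ∣ p ^ 4 := by
    have h1 : (V W 1).relIndex E ∣ p := by
      have h5 := Subgroup.relIndex_map_map_of_injective (W 1) (E.subgroupOf S) S.subtype_injective
      rw [Subgroup.subgroupOf_map_subtype, inf_eq_left.2 s.leS] at h5
      have h6 : (V W 1).relIndex E = (W 1).relIndex (E.subgroupOf S) := h5
      have h1n := h.normal 1
      rw [h6]
      refine (Subgroup.relIndex_dvd_index_of_normal _ _).trans ?_
      rw [h.W1_index]
    have h2 : Nat.card E = Nat.card ((V W 1).subgroupOf E) * (V W 1).relIndex E := by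
      rw [Subgroup.relIndex, Subgroup.card_mul_index]
    have h3 : (V W 1).subgroupOf E = (V W (n - 3)).subgroupOf E := by
      ext e
      rw [Subgroup.mem_subgroupOf, Subgroup.mem_subgroupOf, ← hj]
      exact ⟨fun hh => ⟨e.2, hh⟩, fun hh => hh.2⟩
    rw [h2, h3, Nat.card_congr (Subgroup.subgroupOfEquivOfLe hVE).toEquiv, V_card h 3 (by omega),
      pow_succ p 3]
    exact Nat.mul_dvd_mul_left _ h1
  have hcard : Nat.card (E ⧸ Z) = p ^ 2 := by
    have h1 := Subgroup.card_eq_card_quotient_mul_card_subgroup Z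
    rw [hcardZ] at h1
    have h2 : Nat.card (E ⧸ Z) ∣ p ^ 2 := by
      have h3 : Nat.card (E ⧸ Z) * p ^ 2 ∣ p ^ 2 * p ^ 2 := by
        rw [← h1, ← pow_add]
        exact hcardE
      exact Nat.dvd_of_mul_dvd_mul_right (pow_pos hpp 2) h3
    obtain ⟨r, hr, hr2⟩ := (Nat.dvd_prime_pow hp.out).1 h2
    have hcyc : r ≠ 0 ∧ r ≠ 1 := by
      have hauto : ∀ u v : MulAut (E ⧸ Z), IsCyclic (E ⧸ Z) → u * v = v * u := by
        intro u v hc
        apply MulEquiv.ext
        intro w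
        obtain ⟨g, hg⟩ := hc.exists_generator
        obtain ⟨m, hm⟩ := hg w
        obtain ⟨c, hc1⟩ := hg (u g)
        obtain ⟨d, hd⟩ := hg (v g)
        have hm' : g ^ m = w := hm
        have hc1' : g ^ c = u g := hc1
        have hd' : g ^ d = v g := hd
        show u (v w) = v (u w)
        rw [← hm', map_zpow, map_zpow, map_zpow, map_zpow, ← hd', ← hc1', map_zpow, map_zpow, ← hd', ← hc1']
        simp only [← zpow_mul]
        congr 1
        ring
      constructor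
      · rintro rfl
        rw [pow_zero] at hr2
        have : Subsingleton (E ⧸ Z) := (Nat.card_eq_one_iff_unique.1 hr2).1
        exact hπab (hauto _ _ inferInstance)
      · rintro rfl
        rw [pow_one] at hr2
        exact hπab (hauto _ _ (isCyclic_of_prime_card (p := p) hr2))
    rw [hr2]
    congr 1
    omega
  obtain ⟨u, v, eq, -, -, he1, he2, hsl⟩ := exists_SL_two' hcomm hexp hcard (A₁.map
    (π.comp (F.autGroup E).subtype)) (a := π a) (b := π b) ⟨⟨a, haF⟩, hpel a haF k hak, rfl⟩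
    ⟨⟨b, hb⟩, hpel b hb l hbl, rfl⟩ (k := k) (l := l) (by rw [← map_pow, hak, map_one])
    (by rw [← map_pow, hbl, map_one]) hπab
  obtain ⟨α, hαA, hαe⟩ := hsl (-1)
  have hαe' : π (α : MulAut E) = MulAut.congr eq.symm (planeAct p (-1)) := hαe
  -- `α` inverts `E / Z`
  have hinv : ∀ w : E ⧸ Z, π (α : MulAut E) w = w⁻¹ := by
    intro w
    have h1 := congr_planeAct_apply' eq he1 he2 (-1)
    have h0 : ((-1 : ZMod p)).val = p - 1 := by
      have h5 : ((p - 1 : ℕ) : ZMod p) = -1 := by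
        rw [Nat.cast_sub hp.out.one_lt.le, ZMod.natCast_self, Nat.cast_one, zero_sub]
      rw [← h5]
      exact ZMod.val_cast_of_lt (by omega)
    have hneg : ∀ y : E ⧸ Z, y ^ (p - 1) = y⁻¹ := by
      intro y
      rw [eq_inv_iff_mul_eq_one, ← pow_succ, Nat.sub_add_cancel hp.out.one_lt.le, hexp]
    have hu : π (α : MulAut E) u = u⁻¹ := by
      rw [hαe', h1.1]
      have e1 : ((-1 : SpecialLinearGroup (Fin 2) (ZMod p)).1 0 0) = -1 := by simp
      have e2 : ((-1 : SpecialLinearGroup (Fin 2) (ZMod p)).1 1 0) = 0 := by simp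
      rw [e1, e2, h0, ZMod.val_zero, pow_zero, mul_one, hneg]
    have hv : π (α : MulAut E) v = v⁻¹ := by
      rw [hαe', h1.2]
      have e1 : ((-1 : SpecialLinearGroup (Fin 2) (ZMod p)).1 1 1) = -1 := by simp
      have e2 : ((-1 : SpecialLinearGroup (Fin 2) (ZMod p)).1 0 1) = 0 := by simp
      rw [e1, e2, h0, ZMod.val_zero, pow_zero, one_mul, hneg]
    have h2 := eq_pow_mul_pow' eq he1 he2 w
    rw [h2, map_mul, map_pow, map_pow, hu, hv, mul_inv_rev, inv_pow, inv_pow]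
    exact hcomm _ _
  refine ⟨α, α.2, fun e he => hαA e ((hZmem e).2 he), fun e => ?_, fun β hβ => ?_⟩
  · rw [← hZmem, ← QuotientGroup.eq_one_iff]
    have h1 := hinv (e : E ⧸ Z)
    rw [hπ, quotHom_mk] at h1
    rw [QuotientGroup.mk_mul, h1, mul_inv_cancel]
  · have hβF := autInducedBy_le_autGroup F s.leS hβ
    have h1 : (α : MulAut E) * β * (α : MulAut E)⁻¹ * β⁻¹ ∈ Inn E := by
      refine hK₁I (α * ⟨β, hβF⟩ * α⁻¹ * ⟨β, hβF⟩⁻¹) ?_ ?_
      · have h2 : (α * ⟨β, hβF⟩ * α⁻¹ * ⟨β, hβF⟩⁻¹ : F.autGroup E) ∈ A₁ := by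
          have hb' : (⟨β, hβF⟩ : F.autGroup E) ∈ A₁ := hSZ β hβ
          exact A₁.mul_mem (A₁.mul_mem (A₁.mul_mem hαA hb') (A₁.inv_mem hαA)) (A₁.inv_mem hb')
        exact h2
      · show π ((α : MulAut E) * β * (α : MulAut E)⁻¹ * β⁻¹) = 1
        rw [map_mul, map_mul, map_mul, map_inv, map_inv]
        have h3 : π (α : MulAut E) * π β = π β * π (α : MulAut E) := by
          apply MulEquiv.ext
          intro w
          rw [MulAut.mul_apply, MulAut.mul_apply, hinv, hinv, map_inv]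
        rw [h3]
        group
    have h2 := (autInducedBy S E).mul_mem (inn_le_autInducedBy s.leS h1) hβ
    rwa [inv_mul_cancel_right] at h2

end Cfsg.Agent.H793.ExcA
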