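import Cfsg.Agent.H759.FusLift
import Cfsg.Agent.H802.FusNorm
import Cfsg.Agent.TwoFusion.PResidual

/-!
# The hyperfocal subgroup is strongly closed (helper793)
-/

set_option autoImplicit false

namespace Cfsg.Agent.H793

open Cfsg Cfsg.FusionSystem Cfsg.Agent.H802

section group

variable {G : Type*} [Group G]

/-- `G = O^p(G) R` for a Sylow `p`-subgroup `R`. -/
theorem pResidual_sup_sylow [Finite G] {p : ℕ} [hp : Fact p.Prime] (R : Sylow p G) :
    Cfsg.pResidual p G ⊔ (R : Subgroup G) = ⊤ := by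
  have hN : (Cfsg.pResidual p G).Normal := Cfsg.Agent.TwoFusion.PResidual.pResidual_normal p
  have hq : IsPGroup p (G ⧸ Cfsg.pResidual p G) :=
    Cfsg.Agent.TwoFusion.PResidual.isPGroup_quotient_pResidual (G := G) p
  obtain ⟨n, hn⟩ := IsPGroup.iff_card.1 hq
  have h1 : (Cfsg.pResidual p G ⊔ (R : Subgroup G)).index ∣ p ^ n := by
    rw [← hn]
    exact Subgroup.index_dvd_of_le le_sup_left
  have h2 : (Cfsg.pResidual p G ⊔ (R : Subgroup G)).index ∣ (R : Subgroup G).index :=
    Subgroup.index_dvd_of_le le_sup_right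
  have h3 : ¬ p ∣ (R : Subgroup G).index := R.not_dvd_index
  rw [← Subgroup.index_eq_one]
  obtain ⟨k, -, hk⟩ := (Nat.dvd_prime_pow hp.out).1 h1
  rcases Nat.eq_zero_or_pos k with h0 | h0
  · rw [hk, h0, pow_zero]
  · exfalso
    apply h3
    refine dvd_trans ?_ h2
    rw [hk]
    exact dvd_pow_self p h0.ne'

end group

variable {Ω : Type*} [Group Ω] {S : Subgroup Ω}

/-- Transport of `Aut_F(P)` along a map of the system. -/
noncomputable def autHom {F : FusionSystem S} {P Q : Subgroup Ω} {φ : P →* Ω} (h : φ ∈ F.Hom P)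
    (hQ : φ.range = Q) : F.autGroup P →* F.autGroup Q where
  toFun α := ⟨MulAut.congr (isoOf φ (F.injective_of_mem h) hQ) α, congr_mem_autGroup h hQ α.2⟩
  map_one' := by
    apply Subtype.ext
    show MulAut.congr _ (1 : MulAut P) = 1
    exact map_one _
  map_mul' a b := by
    apply Subtype.ext
    show MulAut.congr _ ((a : MulAut P) * (b : MulAut P)) = _ * _
    exact map_mul _ _ _

theorem autHom_apply {F : FusionSystem S} {P Q : Subgroup Ω} {φ : P →* Ω} (h : φ ∈ F.Hom P)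
    (hQ : φ.range = Q) (α : F.autGroup P) (x : P) (hx : φ x ∈ Q) :
    (((autHom h hQ α : MulAut Q) ⟨φ x, hx⟩ : Q) : Ω) = φ ((α : MulAut P) x) := by
  have h1 : (isoOf φ (F.injective_of_mem h) hQ).symm ⟨φ x, hx⟩ = x := by
    rw [MulEquiv.symm_apply_eq]
    exact Subtype.ext rfl
  show (((isoOf φ (F.injective_of_mem h) hQ) ((α : MulAut P)
    ((isoOf φ (F.injective_of_mem h) hQ).symm ⟨φ x, hx⟩)) : Q) : Ω) = _
  rw [h1]
  rfl

theorem mem_hyp {F : FusionSystem S} {p : ℕ} {P : Subgroup Ω} (hP : P ≤ S) {α : F.autGroup P}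
    (hα : α ∈ pResidual p (F.autGroup P)) (x : P) :
    (x : Ω)⁻¹ * (((α : MulAut P) x : P) : Ω) ∈ F.hyperfocalSubgroup p :=
  Subgroup.subset_closure ⟨P, α, x, hP, hα, rfl⟩

/-- A `p'`-automorphism moves elements by elements of the hyperfocal subgroup. -/
theorem mem_hyp_of_coprime {F : FusionSystem S} {p : ℕ} {P : Subgroup Ω} (hP : P ≤ S)
    {α : MulAut P} (hα : α ∈ F.autGroup P) (ho : (orderOf α).Coprime p) (x : P) :
    (x : Ω)⁻¹ * ((α x : P) : Ω) ∈ F.hyperfocalSubgroup p := by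
  refine mem_hyp hP (α := ⟨α, hα⟩) (Subgroup.subset_closure ?_) x
  show (orderOf (⟨α, hα⟩ : F.autGroup P)).Coprime p
  rw [Subgroup.orderOf_mk]
  exact ho

theorem hyp_le (F : FusionSystem S) (p : ℕ) : F.hyperfocalSubgroup p ≤ S := by
  refine (Subgroup.closure_le S).2 ?_
  rintro y ⟨P, α, x, hP, -, rfl⟩
  exact S.mul_mem (S.inv_mem (hP x.2)) (hP ((α : MulAut P) x).2)

/-- A map of the system defined on all of `S` preserves the hyperfocal subgroup. -/
theorem apply_mem_hyp_of_top {F : FusionSystem S} {p : ℕ} {φ : S →* Ω} (hφ : φ ∈ F.Hom S) (y : S)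
    (hy : (y : Ω) ∈ F.hyperfocalSubgroup p) : φ y ∈ F.hyperfocalSubgroup p := by
  have h : F.hyperfocalSubgroup p ≤ ((F.hyperfocalSubgroup p).comap φ).map S.subtype := by
    refine (Subgroup.closure_le _).2 ?_
    rintro y ⟨P, α, x, hP, hα, rfl⟩
    refine ⟨⟨(x : Ω)⁻¹ * (((α : MulAut P) x : P) : Ω),
      S.mul_mem (S.inv_mem (hP x.2)) (hP ((α : MulAut P) x).2)⟩, ?_, rfl⟩
    show φ _ ∈ F.hyperfocalSubgroup p
    have hres : φ.comp (Subgroup.inclusion hP) ∈ F.Hom P := restrict_mem hφ hP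
    set ψ := φ.comp (Subgroup.inclusion hP) with hψ
    have h1 := mem_hyp (p := p) (range_le_of_mem hres) (α := autHom hres rfl α)
      (Cfsg.Agent.TwoFusion.PResidual.map_pResidual_le p (autHom hres rfl) ⟨α, hα, rfl⟩)
      ⟨ψ x, ⟨x, rfl⟩⟩
    have h3 := autHom_apply hres rfl α x ⟨x, rfl⟩
    rw [h3] at h1
    have h2 : φ ⟨(x : Ω)⁻¹ * (((α : MulAut P) x : P) : Ω),
        S.mul_mem (S.inv_mem (hP x.2)) (hP ((α : MulAut P) x).2)⟩ =
        (ψ x)⁻¹ * ψ ((α : MulAut P) x) := by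
      rw [← map_inv, ← map_mul]; rfl
    rw [h2]
    exact h1
  obtain ⟨z, hz, hzy⟩ := h hy
  have : z = y := Subtype.ext hzy
  rw [← this]
  exact hz

theorem conj_mem_hyp {F : FusionSystem S} {p : ℕ} {s y : Ω} (hs : s ∈ S)
    (hy : y ∈ F.hyperfocalSubgroup p) : s * y * s⁻¹ ∈ F.hyperfocalSubgroup p :=
  apply_mem_hyp_of_top (F.conj_mem le_rfl hs) ⟨y, hyp_le F p hy⟩ hy

theorem conj_mem_hyp_iff {F : FusionSystem S} {p : ℕ} {s y : Ω} (hs : s ∈ S) :
    s * y * s⁻¹ ∈ F.hyperfocalSubgroup p ↔ y ∈ F.hyperfocalSubgroup p := by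
  refine ⟨fun h => ?_, conj_mem_hyp hs⟩
  have := conj_mem_hyp (S.inv_mem hs) h
  simpa [mul_assoc] using this

/-- For a fully automized `Q`: a subgroup of `Aut_F(Q)` containing the `p'`-elements and `Aut_S(Q)` is everything. -/
theorem autGroup_le_of_coprime {F : FusionSystem S} [Finite S] {p : ℕ} [Fact p.Prime] {Q : Subgroup Ω}
    (hQ : F.IsFullyAutomized p Q) (K : Subgroup (MulAut Q))
    (h1 : ∀ α ∈ F.autGroup Q, (orderOf α).Coprime p → α ∈ K) (h2 : autInducedBy S Q ≤ K) :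
    F.autGroup Q ≤ K := by
  obtain ⟨hQS, R, hR⟩ := hQ
  have hfin : Finite Q := finite_of_le hQS
  have h3 := pResidual_sup_sylow R
  have h4 : Cfsg.pResidual p (F.autGroup Q) ⊔ (R : Subgroup (F.autGroup Q)) ≤
      K.subgroupOf (F.autGroup Q) := by
    refine sup_le ?_ ?_
    · refine (Subgroup.closure_le _).2 ?_
      intro g hg
      refine h1 g g.2 ?_
      have h5 : (orderOf g).Coprime p := hg
      rwa [← Subgroup.orderOf_coe] at h5
    · rw [hR]
      intro g hg
      exact h2 hg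
  rw [h3] at h4
  intro α hα
  exact h4 (Subgroup.mem_top (⟨α, hα⟩ : F.autGroup Q))

/-- The hyperfocal subgroup of a saturated fusion system is strongly closed: elementwise form. -/
theorem apply_mem_hyp_iff [Finite S] {p : ℕ} [Fact p.Prime] (hS : IsPGroup p S)
    {F : FusionSystem S} (hF : F.IsSaturated p) :
    ∀ (P : Subgroup Ω) (φ : P →* Ω), φ ∈ F.Hom P → ∀ x : P,
      ((x : Ω) ∈ F.hyperfocalSubgroup p ↔ φ x ∈ F.hyperfocalSubgroup p) := by
  refine Cfsg.Agent.H759.saturated_induction F hS hF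
    (fun P φ => ∀ x : P, ((x : Ω) ∈ F.hyperfocalSubgroup p ↔ φ x ∈ F.hyperfocalSubgroup p))
    ?_ ?_ ?_ ?_
  · rintro P R φ χ hφ hM h he x
    rw [he x]
    exact hM ⟨x, h x.2⟩
  · rintro P Q φ ψ χ hφ hψ h1 h2 he x
    obtain ⟨h, hx⟩ := he x
    rw [hx, h1 x]
    exact h2 ⟨φ x, h⟩
  · rintro P R φ χ hφ h1 hχ he y
    obtain ⟨x, hx, hy⟩ := he y
    rw [hy, h1 x, hx]
  · intro Q hQa hQr _ α hα
    let K : Subgroup (MulAut Q) :=
      { carrier := {a | ∀ x : Q, (x : Ω) ∈ F.hyperfocalSubgroup p ↔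
          ((a x : Q) : Ω) ∈ F.hyperfocalSubgroup p}
        one_mem' := fun x => Iff.rfl
        mul_mem' := by
          intro a b ha hb x
          rw [hb x, ha (b x)]; rfl
        inv_mem' := by
          intro a ha x
          have := ha (a⁻¹ x)
          rw [MulAut.apply_inv_self] at this
          exact this.symm }
    have hK : F.autGroup Q ≤ K := by
      refine autGroup_le_of_coprime hQa K ?_ ?_
      · intro a ha ho x
        have h1 := mem_hyp_of_coprime hQa.1 ha ho x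
        constructor
        · intro h
          have := Subgroup.mul_mem _ h h1
          simpa using this
        · intro h
          have := Subgroup.mul_mem _ h (Subgroup.inv_mem _ h1)
          simpa using this
      · intro a ha x
        obtain ⟨g, hg, he⟩ := (mem_autInducedBy_iff S Q a).1 ha
        rw [he x, conj_mem_hyp_iff hg]
    exact hK hα

/-- **The hyperfocal subgroup is strongly closed.** -/
theorem stronglyClosed_hyp [Finite S] {p : ℕ} [Fact p.Prime] (hS : IsPGroup p S)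
    {F : FusionSystem S} (hF : F.IsSaturated p) : F.StronglyClosed (F.hyperfocalSubgroup p) :=
  ⟨hyp_le F p, fun R hR φ hφ x => (apply_mem_hyp_iff hS hF R φ hφ x).1 (hR x.2)⟩

end Cfsg.Agent.H793
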