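import Cfsg.Agent.S0112
import Cfsg.Agent.H787.MaxC
import Cfsg.Agent.H766.OrderCube
import Cfsg.Agent.H467.MaxClassUniform

/-!
# Essential subgroups containing an element with centralizer of order `p ^ 2` are pearls (helper793)

* `classE` : a `p`-group of order at least `p ^ 3` with an element with centralizer of order at most `p ^ 2` has
  maximal class (Suzuki);
* `card_le_cube` : an essential subgroup of maximal class has order at most `p ^ 3`;
* `pearl_of_centralizer` : **Case A**: an essential subgroup with an element whose centralizer in it has order at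
  most `p ^ 2` is a pearl.
-/

set_option autoImplicit false

namespace Cfsg.Agent.H793.PearlA

open Cfsg Cfsg.FusionSystem Cfsg.Agent.H802
open scoped commutatorElement

/-- A subgroup of prime index is maximal. -/
theorem isCoatom_of_index_prime {G : Type*} [Group G] [Finite G] {M : Subgroup G}
    (h : M.index.Prime) : IsCoatom M := by
  refine ⟨fun hM => ?_, fun K hK => ?_⟩
  · rw [hM, Subgroup.index_top] at h
    exact Nat.not_prime_one h
  · have h1 : M.relIndex K * K.index = M.index := Subgroup.relIndex_mul_index hK.le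
    have h2 : K.index ∣ M.index := ⟨M.relIndex K, by rw [mul_comm]; exact h1.symm⟩
    rcases (Nat.dvd_prime h).1 h2 with h3 | h3
    · exact Subgroup.index_eq_one.1 h3
    · exfalso
      rw [h3] at h1
      have h4 : M.relIndex K = 1 := by
        have h5 : 0 < M.index := h.pos
        nlinarith
      exact (not_le_of_gt hK) (Subgroup.relIndex_eq_one.1 h4)

theorem classE {X : Type*} [Group X] [Finite X] {p m : ℕ} [hp : Fact p.Prime] (hX : Nat.card X = p ^ m)
    (hm : 2 ≤ m) {x : X} (hx : Nat.card (Subgroup.centralizer ({x} : Set X)) ≤ p ^ 2) :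
    Group.nilpotencyClass X = m - 1 := by
  have hXp : IsPGroup p X := IsPGroup.of_card hX
  set C := Subgroup.centralizer ({x} : Set X) with hC
  have hxC : x ∈ C := Subgroup.mem_centralizer_singleton_iff.2 rfl
  have hcard2 : Nat.card C = p ^ 2 := by
    obtain ⟨k, hk, hkC⟩ := (Nat.dvd_prime_pow hp.out).1 (hX ▸ Subgroup.card_subgroup_dvd_card C)
    rw [hkC] at hx ⊢
    have hk2 : k ≤ 2 := (Nat.pow_le_pow_iff_right hp.out.one_lt).1 hx
    -- `C` contains the centre
    have hnt : Nontrivial X := by
      rw [← Finite.one_lt_card_iff_nontrivial, hX]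
      exact Nat.one_lt_pow (by omega) hp.out.one_lt
    have hZ : Subgroup.center X ≤ C := Subgroup.center_le_centralizer _
    obtain ⟨j, hj, hjZ⟩ := IsPGroup.card_center_eq_prime_pow (p := p) hX (by omega)
    have hjk : j ≤ k := by
      have h1 := Subgroup.card_le_of_le hZ
      rw [hjZ, hkC] at h1
      exact (Nat.pow_le_pow_iff_right hp.out.one_lt).1 h1
    rcases Nat.lt_or_ge k 2 with h2 | h2
    · exfalso
      have hjk' : j = k := by omega
      have hZC : Subgroup.center X = C :=
        Subgroup.eq_of_le_of_card_ge hZ (by rw [hjZ, hkC, hjk'])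
      have hxZ : x ∈ Subgroup.center X := by rw [hZC]; exact hxC
      have hCtop : C = ⊤ := by
        rw [eq_top_iff]
        intro y _
        rw [hC, Subgroup.mem_centralizer_singleton_iff]
        exact (Subgroup.mem_center_iff.1 hxZ y)
      rw [hCtop, Subgroup.card_top, hX] at hkC
      have := Nat.pow_right_injective hp.out.two_le hkC
      omega
    · have : k = 2 := by omega
      rw [this]
  have hab := isMulCommutative_iff.mp (IsPGroup.isMulCommutative_of_card_eq_prime_sq hcard2)
  refine Cfsg.Agent.S0112.result m hX C hcard2 ?_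
  apply le_antisymm
  · intro y hy
    rw [hC, Subgroup.mem_centralizer_singleton_iff]
    exact (Subgroup.mem_centralizer_iff.1 hy x hxC).symm
  · intro y hy
    rw [Subgroup.mem_centralizer_iff]
    intro z hz
    exact congrArg Subtype.val (hab ⟨z, hz⟩ ⟨y, hy⟩)

theorem lcs_index {X : Type*} [Group X] [Finite X] {p m : ℕ} [hp : Fact p.Prime] (hX : Nat.card X = p ^ m)
    (hm : 3 ≤ m) (hc : Group.nilpotencyClass X = m - 1) :
    ((⊤ : Subgroup X).lowerCentralSeries 1).index = p ^ 2 :=
  (Cfsg.Agent.H467.MaxClass.lcs_card hX hc hm (i := 1) le_rfl (by omega)).2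

variable {Ω : Type*} [Group Ω] {S : Subgroup Ω}

theorem card_le_cube {p : ℕ} [hp : Fact p.Prime] [Finite S] (hS : IsPGroup p S) {F : FusionSystem S}
    {E : Subgroup Ω} (hE : F.IsEssential p E) {m : ℕ} (hm : Nat.card E = p ^ m)
    (hc : Group.nilpotencyClass E = m - 1) : m ≤ 3 := by
  by_contra hlt
  push Not at hlt
  have hle := Cfsg.Agent.H766.ess_le hE
  have hfE : Finite E := finite_of_le hle
  have hEp : IsPGroup p E := hS.to_le hle
  set K := Subgroup.centralizer (Subgroup.upperCentralSeries E 2 : Set E) with hK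
  have hKi : K.index = p := Cfsg.Agent.H787.index_centralizer_ucs_two hm hc (by omega)
  have hKchar : K.Characteristic := by
    have : (Subgroup.upperCentralSeries E 2).Characteristic := inferInstance
    infer_instance
  have hmin : frattini E ≤ K := by
    have hKn : K.Normal := inferInstance
    have hco : IsCoatom K := isCoatom_of_index_prime (by rw [hKi]; exact hp.out)
    exact frattini_le_coatom hco
  have hcomm : (⊤ : Subgroup E).lowerCentralSeries 1 ≤ frattini E :=
    Cfsg.Agent.Lib.FrattiniPGroup.commutator_le_frattini hEp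
  have hidx := lcs_index hm (by omega) hc
  have h1 : (frattini E).index ∣ p ^ 2 := by
    rw [← hidx]
    exact Subgroup.index_dvd_of_le hcomm
  have h2 := Subgroup.relIndex_mul_index hmin
  rw [hKi] at h2
  have h3 : (frattini E).relIndex K ∣ p := by
    rw [← h2, pow_two] at h1
    exact Nat.dvd_of_mul_dvd_mul_right hp.out.pos h1
  refine Cfsg.Agent.H766.ess_flag hS hE K (fun α _ x hx => ?_) hmin (Or.inr hKi)
    ((Nat.dvd_prime hp.out).1 h3)
  have h4 := hKchar.fixed α
  have h5 : x ∈ K.comap α.toMonoidHom := by rw [h4]; exact hx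
  exact h5

/-- **Case A.** An essential subgroup with an element whose centralizer in it has order at most `p ^ 2` is a
pearl. -/
theorem pearl_of_centralizer {p : ℕ} [hp : Fact p.Prime] [Finite S] (hS : IsPGroup p S) {F : FusionSystem S}
    {E : Subgroup Ω} (hE : F.IsEssential p E) {x : E}
    (hx : Nat.card (Subgroup.centralizer ({x} : Set E)) ≤ p ^ 2) :
    (Nat.card E = p ^ 2 ∧ Cfsg.IsElementaryAbelian p E) ∨
      (Nat.card E = p ^ 3 ∧ Cfsg.IsExtraspecial p E ∧ (p ≠ 2 → Monoid.exponent E = p) ∧
        (p = 2 → Nonempty (E ≃* QuaternionGroup 2))) := by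
  have hpr : p.Prime := hp.out
  have hle := Cfsg.Agent.H766.ess_le hE
  have hfE : Finite E := Cfsg.Agent.H802.finite_of_le hle
  have hEp : IsPGroup p E := hS.to_le hle
  obtain ⟨k, hkE⟩ := IsPGroup.iff_card.1 hEp
  obtain ⟨hf1, hf2⟩ := Cfsg.Agent.H766.ess_frattini_index hS hE
  have hfd : (frattini E).index ∣ p ^ k := by rw [← hkE]; exact Subgroup.index_dvd_card _
  have hk2 : 2 ≤ k := by
    by_contra hlt
    push Not at hlt
    interval_cases k
    · rw [pow_zero, Nat.dvd_one] at hfd
      exact hf1 hfd
    · rw [pow_one] at hfd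
      rcases (Nat.dvd_prime hpr).1 hfd with h | h
      · exact hf1 h
      · exact hf2 h
  have hc := classE hkE hk2 hx
  have hk3 := card_le_cube hS hE hkE hc
  have hcases : k = 2 ∨ k = 3 := by omega
  rcases hcases with rfl | rfl
  · left
    refine ⟨hkE, ?_⟩
    have h1 := Cfsg.Agent.H766.ess_frattini_eq_bot_of_card_sq hS hE hkE
    obtain ⟨h2, h3⟩ := Cfsg.Agent.H766.mul_comm_of_frattini_eq_bot hEp h1
    refine ⟨⟨⟨fun x y => h2 x y⟩⟩, fun a ha => ?_⟩
    exact congrArg Subtype.val (h3 ⟨a, ha⟩)
  · right
    have hab : ∃ x y : E, x * y ≠ y * x := by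
      by_contra hab
      push Not at hab
      have : Subgroup.centralizer ({x} : Set E) = ⊤ := by
        rw [eq_top_iff]
        intro y _
        exact Subgroup.mem_centralizer_singleton_iff.2 (hab y x)
      rw [this, Subgroup.card_top, hkE] at hx
      have := (Nat.pow_le_pow_iff_right hpr.one_lt).1 hx
      omega
    have hext := Cfsg.Agent.J2Type.ExtCube.isExtraspecial_of_card_cube hkE hab
    refine ⟨hkE, hext, ?_, ?_⟩
    · intro hp2
      obtain ⟨⟨hpP, hΦZ, hDZ⟩, hZc⟩ := hext
      have hcomm : ∀ x y : E, ⁅x, y⁆ ∈ Subgroup.center E := by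
        intro x y
        rw [← hDZ]
        exact Subgroup.commutator_mem_commutator (Subgroup.mem_top x) (Subgroup.mem_top y)
      have hodd : Odd p := hpr.odd_of_ne_two hp2
      have hexp := Cfsg.Agent.H766.ess_cube_exp hS hE hkE (fun x y =>
        Cfsg.Agent.H766.mul_pow_of_central hodd (fun x y z =>
          (Subgroup.mem_center_iff.1 (hcomm x y) z).symm) (fun x y => by
            have h1 : (⟨⁅x, y⁆, hcomm x y⟩ : Subgroup.center E) ^ Nat.card (Subgroup.center E) = 1 :=
              pow_card_eq_one'
            rw [hZc] at h1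
            exact congrArg Subtype.val h1) x y)
      have h1 : Monoid.exponent E ∣ p := Monoid.exponent_dvd_of_forall_pow_eq_one hexp
      rcases (Nat.dvd_prime hpr).1 h1 with h2 | h2
      · exfalso
        obtain ⟨x, y, hxy⟩ := hab
        apply hxy
        rw [Monoid.exp_eq_one_iff] at h2
        exact Subsingleton.elim _ _
      · exact h2
    · rintro rfl
      exact Cfsg.Agent.H766.ess_eight hS hE hkE hab

end Cfsg.Agent.H793.PearlA
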