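import Cfsg.Agent.H793.SimA

/-!
# Fusion systems on groups of maximal class with abelian pearls: simplicity, II (helper793)

`Pe.weight_of_proper` : a saturated invariant subsystem over a proper subgroup `T ≥ E` forces `t ^ (n - 1) = 1`
for all `t`.
-/

set_option autoImplicit false

namespace Cfsg.Agent.H793.Sim

open Cfsg Cfsg.FusionSystem Cfsg.Agent.H802 Cfsg.Agent.H766
open Cfsg.Agent.H467.MaxClass
open Matrix (SpecialLinearGroup)
open Cfsg.Agent.ClassicalGeometry.SplitTorus (up lo dg dg_conj_up)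
open scoped commutatorElement

variable {Ω : Type*} [Group Ω] {S : Subgroup Ω}

namespace Pe

variable {p n : ℕ} [hp : Fact (Nat.Prime p)] [Finite S] {F : FusionSystem S} {E : Subgroup Ω} {x y : E}
    {e : (E ⧸ frattini E) ≃* Multiplicative (Fin 2 → ZMod p)}

/-- `Aut_S(E)` is generated by any nontrivial element. -/
theorem pow_of_ne (s : Pe p n F E x y e) {β γ : MulAut E} (hβ : β ∈ autInducedBy S E) (hβ1 : β ≠ 1)
    (hγ : γ ∈ autInducedBy S E) : ∃ k : ℕ, γ = β ^ k := by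
  obtain ⟨c, hc⟩ := s.hfr.aut β hβ
  obtain ⟨d, hd⟩ := s.hfr.aut γ hγ
  have hc0 : c ≠ 0 := by
    rintro rfl
    apply hβ1
    apply s.bar_injective
    rw [hc, Cfsg.Agent.ClassicalGeometry.SplitTorus.up_zero, map_one, map_one, map_one]
  have hpow : ∀ n : ℕ, barHom E (β ^ n) = MulAut.congr e.symm (planeAct p (up (n * c))) := by
    intro n
    rw [map_pow, hc, ← map_pow, ← map_pow]
    congr 2
    induction n with
    | zero => simp [Cfsg.Agent.ClassicalGeometry.SplitTorus.up_zero]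
    | succ n ih =>
      rw [pow_succ, ih, ← Cfsg.Agent.ClassicalGeometry.SplitTorus.up_add]
      congr 1
      push_cast
      ring
  refine ⟨(d * c⁻¹).val, ?_⟩
  apply s.bar_injective
  rw [hpow, hd, ZMod.natCast_zmod_val, mul_assoc, inv_mul_cancel₀ hc0, mul_one]

/-- `E` is a pearl of `N`. -/
theorem ess_N (s : Pe p n F E x y e) {T : Subgroup Ω} {N : FusionSystem T}
    (hNs : N.IsSaturated p) (hN : N.IsInvariantIn F)
    (hET : E ≤ T) {w : S} (hwT : (w : Ω) ∈ T) (hw : w ∈ chain S (n - 2)) (hw' : w ∉ chain S (n - 1)) :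
    N.IsEssential p E := by
  have hTS : T ≤ S := hN.2.1.1
  have hTfin : Finite T := finite_of_le hTS
  have hEfin : Finite E := finite_of_le s.hES
  have hTp : IsPGroup p T := s.hS.to_le hTS
  have hNE := s.normalizer_le hET hwT hw hw'
  have hNconj : ∀ Q, N.IsConj E Q → F.IsConj E Q := fun Q ⟨φ, hφ, hφe⟩ => ⟨φ, hN.1 E hφ, hφe⟩
  have hcen : N.IsCentric E := by
    refine ⟨hET, fun Q hQ => le_trans ?_ (s.hE.ess.1.2 Q (hNconj Q hQ))⟩
    exact inf_le_inf_right _ hTS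
  have hfn : N.IsFullyNormalized E := by
    refine ⟨hET, fun Q hQ => ?_⟩
    have h1 : Nat.card (normalizerIn T Q) ≤ Nat.card (normalizerIn S Q) := by
      have : Finite (normalizerIn S Q) := finite_of_le inf_le_left
      exact Subgroup.card_le_of_le (inf_le_inf_right _ hTS)
    have h2 := s.hE.ess.2.1.2 Q (hNconj Q hQ)
    have h3 : Nat.card (normalizerIn S E) ≤ Nat.card (normalizerIn T E) := by
      have : Finite (normalizerIn T E) := finite_of_le inf_le_left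
      exact Subgroup.card_le_of_le (le_inf hNE inf_le_right)
    exact h1.trans (h2.trans h3)
  have hne : E ≠ T := by
    intro h
    have h1 := card_lt_card_normalizerIn s.hS s.hES (ne_of_isEssential s.hS s.hF s.hE.ess)
    have h2 : Nat.card (normalizerIn S E) ≤ Nat.card E := by
      rw [← h] at hNE
      exact Subgroup.card_le_of_le hNE
    omega
  refine isEssential_of_not_le hTp hNs hfn hcen hne
    (Subgroup.normalizer ((autInducedBy S E : Subgroup (MulAut E)) : Set (MulAut E))) ?_ ?_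
  · rintro α hα ⟨R, hER, hRc, ψ, hψ, hψe⟩
    have hRT : R ≤ T := (N.le_of_mem hψ).1
    have hfR : Finite R := finite_of_le (hRT.trans hTS)
    -- an element of `N_R(E)` outside `E`
    obtain ⟨g, hg, hgE⟩ : ∃ g ∈ normalizerIn R E, g ∉ E := by
      by_contra hcon
      push Not at hcon
      have hER' : E ≠ R := by
        rintro rfl
        exact lt_irrefl _ hRc
      have h1 := card_lt_card_normalizerIn (hTp.to_le hRT) hER hER'
      have h2 : Nat.card (normalizerIn R E) ≤ Nat.card E := Subgroup.card_le_of_le hcon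
      omega
    obtain ⟨κ, hκ⟩ := exists_conjAut hg.2
    have hgS : g ∈ S := hTS (hRT hg.1)
    have hκS : κ ∈ autInducedBy S E := conj_mem_autInducedBy hgS hκ
    have hκ1 : κ ≠ 1 := by
      rintro rfl
      apply hgE
      refine s.centE hgS (fun v hv => ?_)
      have h1 : (v : Ω) = g * v * g⁻¹ := hκ ⟨v, hv⟩
      calc v * g = g * v * g⁻¹ * g := by rw [← h1]
        _ = g * v := by group
    -- the conjugate
    have hψg : ψ ⟨g, hg.1⟩ ∈ S := hTS ((N.le_of_mem hψ).2 _)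
    have hcα : ∀ v : E, (((α * κ * α⁻¹) v : E) : Ω) = ψ ⟨g, hg.1⟩ * v * (ψ ⟨g, hg.1⟩)⁻¹ := by
      intro v
      obtain ⟨u, rfl⟩ := α.surjective v
      have h1 : (α * κ * α⁻¹) (α u) = α (κ u) := by
        rw [MulAut.mul_apply, MulAut.mul_apply, MulAut.inv_apply_self]
      rw [h1, ← hψe (κ u), ← hψe u]
      have h2 : (⟨(κ u : E), hER (κ u).2⟩ : R) = ⟨g, hg.1⟩ * ⟨u, hER u.2⟩ * ⟨g, hg.1⟩⁻¹ :=
        Subtype.ext (hκ u)
      rw [h2, map_mul, map_mul, map_inv]
    have hαS : α * κ * α⁻¹ ∈ autInducedBy S E := conj_mem_autInducedBy hψg hcα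
    have hα1 : α * κ * α⁻¹ ≠ 1 := by
      intro h
      apply hκ1
      rw [mul_inv_eq_one] at h
      exact mul_eq_left.1 h
    rw [Subgroup.mem_normalizer_iff]
    intro β
    constructor
    · intro hβ
      obtain ⟨k, rfl⟩ := s.pow_of_ne hκS hκ1 hβ
      rw [← conj_pow]
      exact (autInducedBy S E).pow_mem hαS k
    · intro hβ
      obtain ⟨k, hk⟩ := s.pow_of_ne hαS hα1 hβ
      rw [conj_pow] at hk
      have h1 : β = κ ^ k := mul_left_cancel (mul_right_cancel hk)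
      rw [h1]
      exact (autInducedBy S E).pow_mem hκS k
  · intro hle
    obtain ⟨α, hα, hαe⟩ := s.sl_le hN hET hwT hw hw' (Cfsg.Agent.ClassicalGeometry.SplitTorus.wl (ZMod p))
    have hn := hle hα
    obtain ⟨γ, hγ, hγe⟩ := s.hfr.sl (up (-1))
    have hγS := s.hfr.aut' γ hγ (-1) hγe
    have h1 := (Subgroup.mem_normalizer_iff.1 hn γ).1 hγS
    obtain ⟨c, hc⟩ := s.hfr.aut _ h1
    rw [map_mul, map_mul, map_inv, hαe, hγe, ← map_mul, ← map_mul, ← map_inv, ← map_inv, ← map_mul,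
      ← map_mul, Cfsg.Agent.ClassicalGeometry.SplitTorus.wl_mul_up] at hc
    have h2 := planeAct_injective p ((MulAut.congr e.symm).injective hc)
    have h3 : (lo (1 : ZMod p)) 1 0 = (up c) 1 0 := by rw [h2]
    have h4 : (1 : ZMod p) = 0 := h3
    exact one_ne_zero h4

/-- An invariant saturated subsystem over a proper subgroup containing `E`. -/
theorem weight_of_proper (s : Pe p n F E x y e) {T : Subgroup Ω} {N : FusionSystem T}
    (hNs : N.IsSaturated p) (hN : N.IsInvariantIn F) (hET : E ≤ T) (hne : T ≠ S) (t : (ZMod p)ˣ) :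
    t ^ (n - 1) = 1 := by
  have hTS : T ≤ S := hN.2.1.1
  have hsc := hN.2.1
  have hn4 := s.hn
  have hTfin : Finite T := finite_of_le hTS
  have hTp : IsPGroup p T := s.hS.to_le hTS
  obtain ⟨hx, hx', hy1, hyK⟩ := s.pos
  have hTn : (T.subgroupOf S).Normal := by
    refine ⟨fun n hn g => ?_⟩
    rw [Subgroup.mem_subgroupOf] at hn ⊢
    exact hsc.2 T le_rfl (conjHom T g) (F.conj_mem hTS g.2) ⟨n, hn⟩
  have hyT : Subgroup.inclusion s.hES y ∈ T.subgroupOf S := hET y.2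
  obtain ⟨w, hwT, hw, hw'⟩ := s.exists_mem hTn hyT (i := n - 3) (by omega) (by omega)
  rw [show n - 3 + 1 = n - 2 by omega] at hw
  rw [show n - 3 + 2 = n - 1 by omega] at hw'
  -- `T ∩ W 1 = W 2`
  have hB : ∀ a ∈ T.subgroupOf S, a ∈ chain S 1 → a ∈ chain S 2 := by
    intro a ha ha1
    by_contra ha2
    apply hne
    have htop : T.subgroupOf S = ⊤ := by
      apply top_of_chain s.mc
      intro i hi
      have hi' : i = 0 ∨ i = 1 ∨ 2 ≤ i := by omega
      rcases hi' with rfl | rfl | h2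
      · exact ⟨_, hyT, by rw [chain_zero]; trivial, hy1⟩
      · exact ⟨a, ha, ha1, ha2⟩
      · obtain ⟨b, hb1, hb2, hb3⟩ := s.exists_mem hTn hyT (i := i - 1) (by omega) (by omega)
        rw [show i - 1 + 1 = i by omega] at hb2
        rw [show i - 1 + 2 = i + 1 by omega] at hb3
        exact ⟨b, hb1, hb2, hb3⟩
    rw [Subgroup.subgroupOf_eq_top] at htop
    exact le_antisymm hTS htop
  have hNE := s.normalizer_le hET hwT hw hw'
  have hess := s.ess_N hNs hN hET hwT hw hw'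
  have hpearl : IsPearl N p E := ⟨hess, Or.inl s.hE2⟩
  have hNF : N.autGroup E ≤ F.autGroup E := by
    intro α hα
    rw [mem_autGroup_iff F s.hES]
    exact hN.1 E ((mem_autGroup_iff N hET α).1 hα)
  have hfrN : Frame N p E x y e := by
    refine ⟨s.hfr.ex, s.hfr.ey, fun g => s.sl_le hN hET hwT hw hw' g, fun β hβ => ?_, fun α hα c hc => ?_⟩
    · obtain ⟨g, hg, hge⟩ := (mem_autInducedBy_iff T E β).1 hβ
      exact s.hfr.aut β ((mem_autInducedBy_iff S E β).2 ⟨g, hTS hg, hge⟩)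
    · obtain ⟨g, hg, hge⟩ := (mem_autInducedBy_iff S E α).1 (s.hfr.aut' α (hNF hα) c hc)
      exact (mem_autInducedBy_iff T E α).2 ⟨g, hNE ⟨hg, mem_normalizer_of_aut hge⟩, hge⟩
  -- the torus element
  obtain ⟨σ', hσ', δ', hδ', hσδ', hδe'⟩ := pearl_torus hTp hNs hpearl hfrN t
  obtain ⟨σ, hσ, δ, hδ, hσδ, hδe, ⟨z, hz, hσy⟩, hwt⟩ := s.sigma t
  have hδδ : δ' = δ := s.bar_injective (by rw [hδe, hδe'])
  -- `σ` restricted to `T`
  have hσF := (mem_autGroup_iff F le_rfl σ).1 hσ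
  have hσT : ∀ v : T, ((σ ⟨v, hTS v.2⟩ : S) : Ω) ∈ T := fun v =>
    hsc.2 T le_rfl _ (restrict_mem hσF hTS) v
  have hrange := range_eq_of_mapsTo (restrict_mem hσF hTS) hσT
  obtain ⟨σT, hσTF, hσTe⟩ := exists_aut (restrict_mem hσF hTS) hrange
  have hσTe' : ∀ v : T, ((σT v : T) : Ω) = ((σ ⟨v, hTS v.2⟩ : S) : Ω) := hσTe
  have hσTN : σT ∈ N.autGroup T := by
    refine mem_sub_of_agree s.hS s.hF hN.1 hTS s.hE.ess.1 hET hσ' hσTF fun v hv => ?_
    apply Subtype.ext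
    have h1 := hσδ' ⟨v, hv⟩ (hET hv)
    have h2 := congrArg Subtype.val (hσδ ⟨v, hv⟩)
    rw [hσTe']
    rw [hδδ] at h1
    exact h1.trans h2.symm
  -- the commutator with `a ∈ W 1 - W 2`
  obtain ⟨a, ha, ha'⟩ := s.mc.ne_succ (i := 1) (by omega)
  have haN : (a : Ω) ∈ Subgroup.normalizer (T : Set Ω) := by
    have hcj : ∀ (g : S), ∀ v ∈ T, (g : Ω) * v * (g : Ω)⁻¹ ∈ T := fun g v hv =>
      hsc.2 T le_rfl (conjHom T g) (F.conj_mem hTS g.2) ⟨v, hv⟩
    refine Subgroup.mem_normalizer_iff.2 fun v => ⟨hcj a v, fun hv => ?_⟩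
    have h1 := hcj a⁻¹ _ hv
    have h2 : ((a⁻¹ : S) : Ω) * ((a : Ω) * v * (a : Ω)⁻¹) * ((a⁻¹ : S) : Ω)⁻¹ = v := by
      rw [Subgroup.coe_inv]; group
    rwa [h2] at h1
  obtain ⟨ca, hca⟩ := exists_conjAut haN
  have hcaF : ca ∈ F.autGroup T :=
    autInducedBy_le_autGroup F hTS ((mem_autInducedBy_iff S T ca).2 ⟨a, a.2, hca⟩)
  set κ : MulAut T := σT * (ca * σT⁻¹ * ca⁻¹) with hκ
  have hκN : κ ∈ N.autGroup T := (N.autGroup T).mul_mem hσTN
    (conj_mem_of_invariant hN le_rfl hTS hcaF ((N.autGroup T).inv_mem hσTN))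
  set b : S := σ a * a⁻¹ with hb
  have hκe : ∀ v : T, ((κ v : T) : Ω) = (b : Ω) * v * (b : Ω)⁻¹ := by
    intro v
    have h1 : κ v = σT (ca (σT⁻¹ (ca⁻¹ v))) := rfl
    set v1 := ca⁻¹ v with hv1
    have e1 : (v : Ω) = (a : Ω) * v1 * (a : Ω)⁻¹ := by
      rw [← hca v1, hv1, MulAut.apply_inv_self]
    set v2 := σT⁻¹ v1 with hv2
    have e2 : (v1 : Ω) = ((σ ⟨v2, hTS v2.2⟩ : S) : Ω) := by
      rw [← hσTe' v2, hv2, MulAut.apply_inv_self]
    rw [h1, hσTe']
    have e3 : (⟨(ca v2 : T), hTS (ca v2).2⟩ : S) = a * ⟨v2, hTS v2.2⟩ * a⁻¹ := Subtype.ext (hca v2)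
    rw [e3, map_mul, map_mul, map_inv]
    show ((σ a : S) : Ω) * ((σ ⟨v2, hTS v2.2⟩ : S) : Ω) * ((σ a : S) : Ω)⁻¹ =
      (((σ a : S) : Ω) * (a : Ω)⁻¹) * v * (((σ a : S) : Ω) * (a : Ω)⁻¹)⁻¹
    rw [← e2, e1]
    group
  -- `κ` is a `p`-element, so inner
  have hκS : κ ∈ autInducedBy S T := (mem_autInducedBy_iff S T κ).2 ⟨b, b.2, hκe⟩
  obtain ⟨k, hk⟩ := isPGroup_autInducedBy s.hS T ⟨κ, hκS⟩
  obtain ⟨u, hu⟩ := mem_inn_of_pow hTp hNs hκN (k := k) (congrArg Subtype.val hk)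
  have hub : (u : Ω)⁻¹ * b ∈ E := by
    refine s.centE (S.mul_mem (S.inv_mem (hTS u.2)) b.2) fun v hv => ?_
    have h1 := hκe ⟨v, hET hv⟩
    rw [← hu] at h1
    have h4 : (u : Ω) * v * (u : Ω)⁻¹ = (b : Ω) * v * (b : Ω)⁻¹ := h1
    have h5 : (b : Ω) * v = (u : Ω) * v * (u : Ω)⁻¹ * b := by rw [h4]; group
    rw [mul_assoc _ (b : Ω) v, h5]
    group
  have hbT : b ∈ T.subgroupOf S := by
    have h1 := T.mul_mem u.2 (hET hub)
    rw [mul_inv_cancel_left] at h1
    exact h1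
  have hb1 : b ∈ chain S 1 := mul_mem (chain_map_mem σ 1 a ha) (inv_mem ha)
  have hb2 := hB b hbT hb1
  -- the weight on `W 1 / W 2`
  have hn2 := s.mc.normal 2
  obtain ⟨c, hc0, hc⟩ := s.torus.weights s.hp3 hz hσy
  have hc1 : Wt (chain S) σ 1 c := by
    have := hc 0 (by omega)
    rwa [zero_add, pow_zero, mul_one] at this
  have h1 := wt_eq s.mc (by omega) hc1 ha ha' (k := 1) (by
    have h2 := hn2.conj_mem _ hb2 a⁻¹
    have h3 : a⁻¹ * b * a⁻¹⁻¹ = (a ^ (1 : ℤ))⁻¹ * σ a := by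
      rw [hb, zpow_one]
      group
    rwa [h3] at h2)
  rw [Int.cast_one] at h1
  have h2 := hc (n - 2) le_rfl
  rw [show n - 2 + 1 = n - 1 by omega, h1, one_mul] at h2
  have h3 := wt_unique s.mc (by omega) h2 hwt
  apply Units.ext
  rw [Units.val_pow_eq_pow_val, Units.val_one, show n - 1 = n - 2 + 1 by omega, pow_succ]
  have h5 : (t : ZMod p) ^ (n - 2) * (((t⁻¹ : (ZMod p)ˣ) : ZMod p) ^ (n - 2)) = 1 := by
    rw [← mul_pow, Units.mul_inv, one_pow]
  rw [h3] at h5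
  exact h5

end Pe

end Cfsg.Agent.H793.Sim
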