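import Cfsg.Agent.H793.SimD

/-!
# Fusion systems on groups of maximal class with abelian pearls: the determinant system, II (helper793)

`DD_all` : if `F` is its own `p'`-residual and all essential subgroups are elementary abelian of order `p ^ 2`, then
all elements of `Aut_F(S)` have determinant one on `S / γ_1(S) × Z(S)`.
-/

set_option autoImplicit false

namespace Cfsg.Agent.H793.Sim

open Cfsg Cfsg.FusionSystem Cfsg.Agent.H802 Cfsg.Agent.H766
open Cfsg.Agent.H467.MaxClass Cfsg.Agent.H797.MaxOmega Cfsg.Agent.H752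
open scoped commutatorElement

universe u

variable {Ω : Type u} [Group Ω] {S : Subgroup Ω} {p n : ℕ}

/-- maps of determinant one -/
def DetOK (n : ℕ) (F : FusionSystem S) (th : Ω → ZMod p) (P : Subgroup Ω) (φ : P →* Ω) : Prop :=
  (¬ Big p P → ∀ u v : P, om th (φ u) (φ v) = om th (u : Ω) v) ∧
  (Big p P → ∃ σ ∈ F.autGroup S, DD th (chain S (n - 1)) σ ∧
    ∀ (u : P) (hu : (u : Ω) ∈ S), φ u = (σ ⟨u, hu⟩ : S))

/-- the subsystem of the maps of determinant one -/
def detSystem [Finite S] (h : MC S p n (chain S)) [hp : Fact p.Prime] (hK : h.Ksub (n - 2) = chain S 1)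
    {th : Ω → ZMod p} (t : Th p (chain S) th) (F : FusionSystem S) : FusionSystem S where
  Hom P := {φ | φ ∈ F.Hom P ∧ (F.IsCentric P → DetOK n F th P φ)}
  le_of_mem h := F.le_of_mem h.1
  injective_of_mem h := F.injective_of_mem h.1
  conj_mem := by
    intro P g hP hg
    refine ⟨F.conj_mem hP hg, fun hc => ⟨fun hb u v => ?_, fun _ => ⟨MulAut.conj ⟨g, hg⟩,
      inn_le_autGroup F le_rfl ⟨_, rfl⟩, DD_conj h t _, fun u hu => rfl⟩⟩⟩
    have hsm : Sm p n (chain S) P := small h hK hP (hc.2 P (isConj_refl F hP)) hb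
    exact om_of_DD h t hsm (φ := conjHom P g) (DD_conj h t (⟨g, hg⟩ : S))
      (fun z hz => chain_map_mem _ _ z hz) (fun u hu => rfl) u v
  comp_mem := by
    rintro P Q φ ψ ⟨hφ, hφ'⟩ ⟨hψ, hψ'⟩ hm
    refine ⟨F.comp_mem hφ hψ hm, fun hc => ?_⟩
    have hQS : Q ≤ S := (F.le_of_mem hψ).1
    have hle : φ.range ≤ Q := by
      rintro _ ⟨x, rfl⟩
      exact hm _
    have hrc : F.IsCentric φ.range := isCentric_of_isConj hc ⟨φ, hφ, rfl⟩
    have hQc : F.IsCentric Q := isCentric_of_le hrc hle hQS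
    have hfQ : Finite Q := finite_of_le hQS
    have hinj := F.injective_of_mem hφ
    obtain ⟨h1, h2⟩ := hφ' hc
    obtain ⟨h3, h4⟩ := hψ' hQc
    refine ⟨fun hb u v => ?_, fun hb => ?_⟩
    · rw [← h1 hb u v]
      show om th (ψ ⟨φ u, hm u⟩) (ψ ⟨φ v, hm v⟩) = om th (φ u) (φ v)
      by_cases hbQ : Big p Q
      · obtain ⟨σ, hσ, hσD, hσe⟩ := h4 hbQ
        have hsm : Sm p n (chain S) φ.range := small h hK (range_le_of_mem hφ)
          (hrc.2 _ (isConj_refl F (range_le_of_mem hφ))) (fun hh => hb ((big_range_iff hinj).2 hh))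
        exact om_of_DD h t hsm (φ := ψ.comp (Subgroup.inclusion hle)) hσD
          (fun z hz => chain_map_mem σ _ z hz) (fun u hu => hσe ⟨u, hle u.2⟩ hu)
          ⟨φ u, ⟨u, rfl⟩⟩ ⟨φ v, ⟨v, rfl⟩⟩
      · exact h3 hbQ ⟨φ u, hm u⟩ ⟨φ v, hm v⟩
    · have hbQ : Big p Q := ((big_range_iff hinj).1 hb).mono hle
      obtain ⟨σ, hσ, hσD, hσe⟩ := h2 hb
      obtain ⟨τ, hτ, hτD, hτe⟩ := h4 hbQ
      refine ⟨τ * σ, (F.autGroup S).mul_mem hτ hσ,
        DD_mul hτD hσD (fun z hz => chain_map_mem σ _ z hz), fun u hu => ?_⟩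
      show ψ ⟨φ u, hm u⟩ = ((τ (σ ⟨u, hu⟩) : S) : Ω)
      rw [hτe ⟨φ u, hm u⟩ (hom_apply_mem hφ u)]
      congr 2
      exact Subtype.ext (hσe u hu)
  inv_mem := by
    rintro P φ ⟨hφ, hφ'⟩
    obtain ⟨ψ, hψ, hψe⟩ := F.inv_mem hφ
    refine ⟨ψ, ⟨hψ, fun hrc => ?_⟩, hψe⟩
    have hc : F.IsCentric P := isCentric_of_isConj hrc (isConj_symm ⟨φ, hφ, rfl⟩)
    have hinj := F.injective_of_mem hφ
    obtain ⟨h1, h2⟩ := hφ' hc
    refine ⟨?_, fun hb => ?_⟩
    · rintro hb ⟨_, u, rfl⟩ ⟨_, v, rfl⟩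
      rw [hψe, hψe]
      exact (h1 (fun hh => hb ((big_range_iff hinj).1 hh)) u v).symm
    · obtain ⟨σ, hσ, hσD, hσe⟩ := h2 ((big_range_iff hinj).2 hb)
      refine ⟨σ⁻¹, (F.autGroup S).inv_mem hσ, DD_inv hσD (fun z hz => chain_map_mem σ⁻¹ _ z hz), ?_⟩
      rintro ⟨_, u, rfl⟩ hu
      have huS : (u : Ω) ∈ S := hom_le hφ u.2
      have h5 : (⟨φ u, hu⟩ : S) = σ ⟨u, huS⟩ := Subtype.ext (hσe u huS)
      rw [hψe]
      show (u : Ω) = ((σ⁻¹ ⟨φ u, hu⟩ : S) : Ω)
      rw [h5, MulAut.inv_apply_self]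

theorem detSystem_le [Finite S] (h : MC S p n (chain S)) [hp : Fact p.Prime]
    (hK : h.Ksub (n - 2) = chain S 1) {th : Ω → ZMod p} (t : Th p (chain S) th) (F : FusionSystem S) :
    detSystem h hK t F ≤ F := fun _ _ hφ => hφ.1

/-- An element of `Aut_F(S)` with a power `p ^ k` trivial on a centric subgroup is inner. -/
theorem inn_of_restrict [Finite S] [hp : Fact p.Prime] (hS : IsPGroup p S) {F : FusionSystem S}
    (hF : F.IsSaturated p) {P : Subgroup Ω} (hP : F.IsCentric P) {σ : MulAut S} (hσ : σ ∈ F.autGroup S)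
    {k : ℕ} (hk : ∀ (x : Ω) (hx : x ∈ P), (((σ ^ p ^ k) ⟨x, hP.1 hx⟩ : S) : Ω) = x) : σ ∈ Inn S := by
  have hτ : σ ^ p ^ k ∈ F.autGroup S := (F.autGroup S).pow_mem hσ _
  have h1 := (mem_autGroup_iff F le_rfl _).1 hτ
  obtain ⟨z, hz, -, hze⟩ := exists_conj_of_agree_on_centric hS hF hP hP.1 (subtype_mem F le_rfl) h1
    (fun x hx => (hk x hx).symm)
  have hzS := hP.1 hz
  have h2 : σ ^ p ^ k = MulAut.conj (⟨z, hzS⟩ : S) := by
    apply MulEquiv.ext
    intro x
    apply Subtype.ext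
    exact hze x (S.mul_mem (S.mul_mem hzS x.2) (S.inv_mem hzS))
  obtain ⟨m, hm⟩ := hS (⟨z, hzS⟩ : S)
  refine mem_inn_of_pow hS hF hσ (k := k + m) ?_
  rw [pow_add, pow_mul, h2, ← map_pow, hm, map_one]

theorem big_top [Finite S] (h : MC S p n (chain S)) [hp : Fact p.Prime] : Big p S := by
  left
  rw [h.card_group]
  exact Nat.pow_lt_pow_right hp.out.one_lt (by have := h.four_le; omega)

theorem isCentric_top [Finite S] (F : FusionSystem S) : F.IsCentric S := by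
  refine ⟨le_rfl, ?_⟩
  rintro Q ⟨φ, hφ, rfl⟩
  have h1 : φ.range = S := range_eq_of_mapsTo hφ fun x => (F.le_of_mem hφ).2 x
  rw [h1]
  exact inf_le_left

/-- **All elements of `Aut_F(S)` have determinant one.** -/
theorem DD_all [Finite S] (h : MC S p n (chain S)) [hp : Fact p.Prime] (hS : IsPGroup p S)
    {F : FusionSystem S} (hF : F.IsSaturated p) (hK : h.Ksub (n - 2) = chain S 1)
    {th : Ω → ZMod p} (t : Th p (chain S) th)
    (hess : ∀ E : Subgroup Ω, F.IsEssential p E → ¬ Big p E) (hres : F.IsPPrimeResidual p F)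
    {σ : MulAut S} (hσ : σ ∈ F.autGroup S) : DD th (chain S (n - 1)) σ := by
  have hext : ∀ {P : Subgroup Ω} {φ : P →* Ω}, φ ∈ F.Hom P → Big p P →
      ∃ α ∈ F.autGroup S, ∀ (x : P) (hx : (x : Ω) ∈ S), φ x = (α ⟨x, hx⟩ : S) := by
    intro P φ hφ hb
    refine ExcA.ext_of_class hS hF (Big p) (fun A B hA hAB hB => ?_) (fun P φ hφ _ => ?_) hess hφ hb
    · have : Finite B := finite_of_le hB
      exact hA.mono hAB
    · exact big_range_iff (F.injective_of_mem hφ)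
  have key : ∃ F₂ : FusionSystem S, F₂.IsSaturated p ∧ F₂.HasPrimeToPIndexIn F p ∧
      F₂ ≤ detSystem h hK t F ∧
      ∀ P : Subgroup Ω, F.IsCentric P → F₂.Hom P = (detSystem h hK t F).Hom P := by
    refine Cfsg.Agent.H756.exists_primeIndex hS hF (detSystem_le h hK t F) ?_ ?_
    · intro P hP
      rw [Subgroup.map_le_iff_le_comap, Subgroup.closure_le]
      rintro ⟨α, hα⟩ ⟨k, hk⟩
      show α ∈ (detSystem h hK t F).autGroup P
      have hαk : α ^ p ^ k = 1 := by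
        have h1 := pow_orderOf_eq_one (⟨α, hα⟩ : F.autGroup P)
        rw [hk] at h1
        exact congrArg Subtype.val h1
      have hαF := (mem_autGroup_iff F hP.1 α).1 hα
      rw [mem_autGroup_iff _ hP.1]
      refine ⟨hαF, fun _ => ⟨fun hb u v => ?_, fun hb => ?_⟩⟩
      · have hsm : Sm p n (chain S) P := small h hK hP.1 (hP.2 P (isConj_refl F hP.1)) hb
        exact om_of_pow h t hsm hαk u v
      · obtain ⟨τ, hτ, hτe⟩ := hext hαF hb
        refine ⟨τ, hτ, ?_, hτe⟩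
        have h5 : ∀ (m : ℕ) (x : Ω) (hx : x ∈ P), (((τ ^ m) ⟨x, hP.1 hx⟩ : S) : Ω) =
            (((α ^ m) ⟨x, hx⟩ : P) : Ω) := by
          intro m
          induction m with
          | zero => intro x hx; rfl
          | succ m ih =>
            intro x hx
            rw [pow_succ', pow_succ', MulAut.mul_apply, MulAut.mul_apply]
            have h6 : (τ ^ m) ⟨x, hP.1 hx⟩ = ⟨(((α ^ m) ⟨x, hx⟩ : P) : Ω), hP.1 ((α ^ m) ⟨x, hx⟩).2⟩ :=
              Subtype.ext (ih x hx)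
            rw [h6]
            exact (hτe ((α ^ m) ⟨x, hx⟩) _).symm
        obtain ⟨g, hg⟩ := inn_of_restrict hS hF hP hτ (k := k) (fun x hx => by rw [h5 _ x hx, hαk]; rfl)
        rw [← hg]
        exact DD_conj h t g
    · rintro P a hP ⟨φ, hφ, hφe⟩ ⟨ψ, ⟨hψF, hψ'⟩, hψe⟩
      have hr : φ.range = S := range_eq_of_mapsTo hφ fun x => (F.le_of_mem hφ).2 x
      obtain ⟨τ, hτ, hτe⟩ := exists_aut hφ hr
      refine ⟨φ, ⟨hφ, fun _ => ⟨fun hb => absurd (big_top h) hb, fun _ => ⟨τ, hτ, ?_, fun u hu => ?_⟩⟩⟩, hφe⟩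
      · by_cases hb : Big p P
        · obtain ⟨ρ, hρ, hρD, hρe⟩ := (hψ' hP).2 hb
          obtain ⟨z, hz, -, hze⟩ := exists_conj_of_agree_on_centric hS hF hP hP.1
            ((mem_autGroup_iff F le_rfl _).1 hρ) ((mem_autGroup_iff F le_rfl _).1 hτ) (fun x hx => by
              show ((ρ ⟨x, hP.1 hx⟩ : S) : Ω) = ((τ ⟨x, hP.1 hx⟩ : S) : Ω)
              rw [hτe, hφe, ← hρe ⟨x, hx⟩ (hP.1 hx), hψe])
          have hzS := hP.1 hz
          have h2 : τ = ρ * MulAut.conj (⟨z, hzS⟩ : S) := by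
            apply MulEquiv.ext
            intro x
            apply Subtype.ext
            exact hze x (S.mul_mem (S.mul_mem hzS x.2) (S.inv_mem hzS))
          rw [h2]
          exact DD_mul hρD (DD_conj h t _) (fun z hz => chain_map_mem _ _ z hz)
        · have hsm : Sm p n (chain S) P := small h hK hP.1 (hP.2 P (isConj_refl F hP.1)) hb
          refine DD_of_om h t hsm (fun z hz => chain_map_mem τ _ z hz) (fun z hz => chain_map_mem τ _ z hz)
            (fun u v => ?_)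
          rw [← (hψ' hP).1 hb u v, hτe, hτe, hφe, hφe]
          exact congrArg₂ (om th) (hψe u u.2).symm (hψe v v.2).symm
      · exact (hτe _).symm
  obtain ⟨F₂, hs, hidx, hle, -⟩ := key
  · have h1 := hres.2.2 F₂ hs hidx
    have h2 := h1 S ((mem_autGroup_iff F le_rfl σ).1 hσ)
    obtain ⟨-, h3⟩ := hle S h2
    obtain ⟨τ, hτ, hτD, hτe⟩ := (h3 (isCentric_top F)).2 (big_top h)
    have h4 : σ = τ := by
      apply MulEquiv.ext
      intro x
      apply Subtype.ext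
      exact hτe x x.2
    rw [h4]
    exact hτD

end Cfsg.Agent.H793.Sim
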